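import Mathlib

/-!
# Counting in exact sequences, up to bounded factors
-/

set_option autoImplicit false

namespace K112.LH

/-- Two sequences of natural numbers agree up to bounded factors. -/
def Asy (a b : ℕ → ℕ) : Prop := ∃ B : ℕ, 0 < B ∧ ∀ ν, a ν ≤ B * b ν ∧ b ν ≤ B * a ν

namespace Asy

variable {a b c d : ℕ → ℕ}

theorem refl (a : ℕ → ℕ) : Asy a a := ⟨1, one_pos, fun ν => by simp⟩

theorem of_eq (h : ∀ ν, a ν = b ν) : Asy a b := ⟨1, one_pos, fun ν => by simp [h ν]⟩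

theorem symm (h : Asy a b) : Asy b a := by
  obtain ⟨B, hB, h⟩ := h
  exact ⟨B, hB, fun ν => ⟨(h ν).2, (h ν).1⟩⟩

theorem trans (h : Asy a b) (h' : Asy b c) : Asy a c := by
  obtain ⟨B, hB, h⟩ := h
  obtain ⟨B', hB', h'⟩ := h'
  refine ⟨B * B', Nat.mul_pos hB hB', fun ν => ⟨?_, ?_⟩⟩
  · exact (h ν).1.trans (by rw [mul_assoc]; exact Nat.mul_le_mul_left _ (h' ν).1)
  · exact (h' ν).2.trans (by rw [mul_comm B, mul_assoc]; exact Nat.mul_le_mul_left _ (h ν).2)

theorem mul (h : Asy a b) (h' : Asy c d) : Asy (fun ν => a ν * c ν) (fun ν => b ν * d ν) := by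
  obtain ⟨B, hB, h⟩ := h
  obtain ⟨B', hB', h'⟩ := h'
  refine ⟨B * B', Nat.mul_pos hB hB', fun ν => ⟨?_, ?_⟩⟩
  · exact (Nat.mul_le_mul (h ν).1 (h' ν).1).trans (le_of_eq (by ring))
  · exact (Nat.mul_le_mul (h ν).2 (h' ν).2).trans (le_of_eq (by ring))

theorem pow (h : Asy a b) (n : ℕ) : Asy (fun ν => a ν ^ n) (fun ν => b ν ^ n) := by
  induction n with
  | zero => exact of_eq fun ν => by simp
  | succ n ih => simpa only [pow_succ] using ih.mul h

theorem prod {ι : Type*} (s : Finset ι) {a b : ι → ℕ → ℕ} (h : ∀ i ∈ s, Asy (a i) (b i)) :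
    Asy (fun ν => ∏ i ∈ s, a i ν) (fun ν => ∏ i ∈ s, b i ν) := by
  classical
  induction s using Finset.induction_on with
  | empty => exact of_eq fun ν => by simp
  | insert i s hi ih =>
    simp only [Finset.prod_insert hi]
    exact (h i (Finset.mem_insert_self _ _)).mul (ih fun j hj => h j (Finset.mem_insert_of_mem hj))

/-- a bounded sequence of positive numbers -/
theorem of_bounded {e : ℕ → ℕ} {B : ℕ} (h0 : ∀ ν, 0 < e ν) (h : ∀ ν, e ν ≤ B) :
    Asy e (fun _ => 1) :=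
  ⟨B + 1, Nat.succ_pos B, fun ν => ⟨by rw [mul_one]; exact (h ν).trans (Nat.le_succ B),
    Nat.mul_pos (Nat.succ_pos B) (h0 ν)⟩⟩

/-- `ℓ ^ (β ν + e_ν)` with bounded `e`. -/
theorem of_pow {ℓ β C : ℕ} (hℓ : 0 < ℓ) (h : ∀ ν, ∃ e, e ≤ C ∧ a ν = ℓ ^ (β * ν + e)) :
    Asy a (fun ν => ℓ ^ (β * ν)) := by
  refine ⟨ℓ ^ C, Nat.pow_pos hℓ, fun ν => ?_⟩
  obtain ⟨e, he, h1⟩ := h ν
  rw [h1, pow_add]
  refine ⟨?_, ?_⟩
  · rw [mul_comm]
    exact Nat.mul_le_mul_right _ (Nat.pow_le_pow_right hℓ he)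
  · calc ℓ ^ (β * ν) ≤ ℓ ^ (β * ν) * ℓ ^ e := Nat.le_mul_of_pos_right _ (Nat.pow_pos hℓ)
      _ ≤ ℓ ^ C * (ℓ ^ (β * ν) * ℓ ^ e) := Nat.le_mul_of_pos_left _ (Nat.pow_pos hℓ)

theorem unique_aux {ℓ β γ : ℕ} (hℓ : 1 < ℓ) (h : Asy (fun ν => ℓ ^ (β * ν)) (fun ν => ℓ ^ (γ * ν))) :
    β ≤ γ := by
  obtain ⟨B, hB, h⟩ := h
  by_contra hlt
  push Not at hlt
  have h1 := (h B).1
  have h2 : ℓ ^ (γ * B) * ℓ ^ B ≤ B * ℓ ^ (γ * B) := by
    refine le_trans ?_ h1
    rw [← pow_add]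
    exact Nat.pow_le_pow_right hℓ.le (by nlinarith)
  rw [mul_comm] at h2
  have h3 : ℓ ^ B ≤ B := Nat.le_of_mul_le_mul_right h2 (Nat.pow_pos (by omega))
  exact absurd (Nat.lt_pow_self hℓ) (not_lt.2 h3)

theorem unique {ℓ β γ : ℕ} (hℓ : 1 < ℓ) (h : Asy (fun ν => ℓ ^ (β * ν)) (fun ν => ℓ ^ (γ * ν))) :
    β = γ := le_antisymm (unique_aux hℓ h) (unique_aux hℓ h.symm)

end Asy

section groups

variable {A B C D E G : Type*} [AddCommGroup A] [AddCommGroup B] [AddCommGroup C] [AddCommGroup D]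
  [AddCommGroup E] [AddCommGroup G]

theorem card_range_le (φ : A →+ B) (ψ : A →+ C) [Finite B] (h : ∀ a, φ a = 0 → ψ a = 0) :
    Finite ψ.range ∧ Nat.card ψ.range ≤ Nat.card B := by
  have h1 : φ.ker ≤ ψ.ker := fun a ha => h a ha
  have h2 : Function.Surjective (QuotientAddGroup.map φ.ker ψ.ker (AddMonoidHom.id A) h1) := by
    intro x
    obtain ⟨a, rfl⟩ := QuotientAddGroup.mk_surjective x
    exact ⟨QuotientAddGroup.mk a, rfl⟩
  have e1 := QuotientAddGroup.quotientKerEquivRange φ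
  have e2 := QuotientAddGroup.quotientKerEquivRange ψ
  have f1 : Finite (A ⧸ φ.ker) := Finite.of_equiv _ e1.symm.toEquiv
  have f2 : Finite (A ⧸ ψ.ker) := Finite.of_surjective _ h2
  refine ⟨Finite.of_equiv _ e2.toEquiv, ?_⟩
  calc Nat.card ψ.range = Nat.card (A ⧸ ψ.ker) := (Nat.card_congr e2.toEquiv).symm
    _ ≤ Nat.card (A ⧸ φ.ker) := Nat.card_le_card_of_surjective _ h2
    _ = Nat.card φ.range := Nat.card_congr e1.toEquiv
    _ ≤ Nat.card B := Nat.card_le_card_of_injective _ Subtype.val_injective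

theorem card_eq_ker_mul_range (f : A →+ B) : Nat.card A = Nat.card f.ker * Nat.card f.range := by
  rw [← AddSubgroup.card_mul_index f.ker, AddSubgroup.index_ker]

theorem finite_of_ker_range (f : A →+ B) [Finite f.ker] [Finite f.range] : Finite A := by
  have e1 := QuotientAddGroup.quotientKerEquivRange f
  have f1 : Finite (A ⧸ f.ker) := Finite.of_equiv _ e1.symm.toEquiv
  exact Finite.of_equiv _ (AddSubgroup.addGroupEquivQuotientProdAddSubgroup (s := f.ker)).symm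

/-- exactness in the middle -/
theorem card_mid_le (f : A →+ B) (g : B →+ C) [Finite A] [Finite C] (h : ∀ b, g b = 0 → ∃ a, f a = b) :
    Finite B ∧ Nat.card B ≤ Nat.card A * Nat.card C := by
  have h1 : ∀ x : g.ker, ∃ a, f a = x.1 := fun x => h x.1 x.2
  choose s hs using h1
  have hinj : Function.Injective s := fun x y hxy => Subtype.ext (by rw [← hs x, ← hs y, hxy])
  have f1 : Finite g.ker := Finite.of_injective s hinj
  have f2 : Finite g.range := Finite.of_injective _ Subtype.val_injective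
  refine ⟨finite_of_ker_range g, ?_⟩
  rw [card_eq_ker_mul_range g]
  exact Nat.mul_le_mul (Nat.card_le_card_of_injective s hinj)
    (Nat.card_le_card_of_injective _ Subtype.val_injective)

theorem card_five (d' : E →+ A) (f : A →+ B) (g : B →+ C) (d : C →+ D)
    (h1 : ∀ a, f a = 0 ↔ ∃ e, d' e = a) (h2 : ∀ b, g b = 0 ↔ ∃ a, f a = b)
    (h3 : ∀ c, d c = 0 ↔ ∃ b, g b = c) :
    Nat.card B * Nat.card d'.range * Nat.card d.range = Nat.card A * Nat.card C := by
  have k1 : f.ker = d'.range := by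
    ext x
    exact h1 x
  have k2 : g.ker = f.range := by
    ext x
    exact h2 x
  have k3 : d.ker = g.range := by
    ext x
    exact h3 x
  rw [card_eq_ker_mul_range g, k2, card_eq_ker_mul_range f, k1, card_eq_ker_mul_range d, k3]
  ring

/-- A map killing the image of `A → I → C` has image of order at most `#K * #Q`, where `A → I → K` and
`I → C → Q` are exact. -/
theorem card_range_two (u : A →+ B) (w : B →+ E) (v : B →+ C) (q : C →+ G) (d : C →+ D)
    [Finite E] [Finite G]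
    (h1 : ∀ b, w b = 0 → ∃ a, u a = b) (h2 : ∀ c, q c = 0 → ∃ b, v b = c)
    (h3 : ∀ a, d (v (u a)) = 0) :
    Finite d.range ∧ Nat.card d.range ≤ Nat.card E * Nat.card G := by
  have h4 := card_range_le w (d.comp v) (fun b hb => by
    obtain ⟨a, rfl⟩ := h1 b hb
    exact h3 a)
  let d' : C →+ D ⧸ (d.comp v).range := (QuotientAddGroup.mk' (d.comp v).range).comp d
  have h5 := card_range_le q d' (fun c hc => by
    obtain ⟨b, rfl⟩ := h2 c hc
    exact (QuotientAddGroup.eq_zero_iff _).2 ⟨b, rfl⟩)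
  obtain ⟨f4, h4⟩ := h4
  obtain ⟨f5, h5⟩ := h5
  let α : (d.comp v).range →+ d.range := AddSubgroup.inclusion (by
    rintro _ ⟨b, rfl⟩
    exact ⟨v b, rfl⟩)
  let β : d.range →+ d'.range := ((QuotientAddGroup.mk' (d.comp v).range).comp d.range.subtype).codRestrict
    d'.range (by
      rintro ⟨_, c, rfl⟩
      exact ⟨c, rfl⟩)
  have h6 := card_mid_le α β (by
    rintro ⟨x, hx⟩ hb
    have hb' : (QuotientAddGroup.mk' (d.comp v).range) x = 0 := congrArg Subtype.val hb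
    have hb'' := (QuotientAddGroup.eq_zero_iff x).1 hb'
    exact ⟨⟨x, hb''⟩, rfl⟩)
  exact ⟨h6.1, h6.2.trans (Nat.mul_le_mul h4 h5)⟩

end groups

end K112.LH
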