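import Groth.Agent.Lefpen.H710.Growth2
import Groth.Agent.EtAdic.K112.LHCnt

/-!
# Free submodules of `H^i(X, ℤ/ℓ^ν)` of bounded index
-/

set_option autoImplicit false
universe w u

open CategoryTheory CategoryTheory.Limits AlgebraicGeometry

namespace K112.LH

open Groth.Agent.Lefpen.H710 Groth.Agent.Lefpen.H710.Herbrand Groth.Agent.Lefpen.H710.EllSys

section sys

variable {ℓ : ℕ} (S : Sys.{w} ℓ)

theorem k_mono {T : Type*} [AddCommGroup T] (b : ℕ) (h : Nat.card (mulHom T ((ℓ : ℤ) ^ (b + 1))).ker ≠ 0) :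
    Nat.card (mulHom T ((ℓ : ℤ) ^ b)).ker ≤ Nat.card (mulHom T ((ℓ : ℤ) ^ (b + 1))).ker := by
  have : Finite (mulHom T ((ℓ : ℤ) ^ (b + 1))).ker := Nat.finite_of_card_ne_zero h
  refine Nat.card_le_card_of_injective
    (AddSubgroup.inclusion (fun x hx => ?_ : (mulHom T ((ℓ : ℤ) ^ b)).ker ≤ (mulHom T ((ℓ : ℤ) ^ (b + 1))).ker))
    (AddSubgroup.inclusion_injective _)
  rw [AddMonoidHom.mem_ker, mulHom_apply] at hx ⊢
  rw [pow_succ', mul_smul, hx, smul_zero]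

/-- `#(ℓ^b H^i(X, ℤ/ℓ^(b+1))) ≥ ℓ ^ betti`. -/
theorem card_pow_mul_ge [Fact ℓ.Prime] (i b : ℕ) :
    ℓ ^ S.betti i ≤ Nat.card (mulHom (S.A i (b + 1)) ((ℓ : ℤ) ^ b)).range := by
  have hℓ : 0 < ℓ := (Fact.out : ℓ.Prime).pos
  let P := ((mulHom (S.T i) ((ℓ : ℤ) ^ b)).range).map (S.proj i (b + 1))
  have hP : P ≤ (mulHom (S.A i (b + 1)) ((ℓ : ℤ) ^ b)).range := by
    rintro _ ⟨_, ⟨x, rfl⟩, rfl⟩
    exact ⟨S.proj i (b + 1) x, (map_zsmul (S.proj i (b + 1)) _ x).symm⟩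
  have h1 : P.index = c (S.T i) ℓ b * (S.proj i (b + 1)).range.index := by
    change (((mulHom (S.T i) ((ℓ : ℤ) ^ b)).range).map (S.proj i (b + 1))).index = _
    rw [AddSubgroup.index_map, S.ker_proj]
    have e : (mulHom (S.T i) ((ℓ : ℤ) ^ b)).range ⊔ (mulHom (S.T i) ((ℓ : ℤ) ^ (b + 1))).range =
        (mulHom (S.T i) ((ℓ : ℤ) ^ b)).range := by
      refine sup_eq_left.2 ?_
      rintro _ ⟨x, rfl⟩
      exact ⟨(ℓ : ℤ) • x, by rw [mulHom_apply, mulHom_apply, smul_smul, pow_succ]⟩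
    rw [e]
    rfl
  have h2 : Nat.card (S.proj i (b + 1)).range = c (S.T i) ℓ (b + 1) := by
    rw [← AddSubgroup.index_ker, S.ker_proj]
    rfl
  have h3 := AddSubgroup.card_mul_index P
  have h4 := AddSubgroup.card_mul_index (S.proj i (b + 1)).range
  have h5 : (S.proj i (b + 1)).range.index ≠ 0 := AddSubgroup.index_ne_zero_of_finite
  have h6 : Nat.card P * c (S.T i) ℓ b = c (S.T i) ℓ (b + 1) := by
    apply Nat.eq_of_mul_eq_mul_right (Nat.pos_of_ne_zero h5)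
    rw [mul_assoc, ← h1, h3, ← h2, h4]
  rw [S.c_eq_pow, S.c_eq_pow] at h6
  have h7 : k (S.T i) ℓ b ≤ k (S.T i) ℓ (b + 1) := k_mono b (S.k_ne_zero i (b + 1))
  have h8 : 0 < ℓ ^ (S.betti i * b) * k (S.T i) ℓ b :=
    Nat.mul_pos (Nat.pow_pos hℓ) (Nat.pos_of_ne_zero (S.k_ne_zero i b))
  have h9 : ℓ ^ S.betti i ≤ Nat.card P := by
    apply Nat.le_of_mul_le_mul_right _ h8
    rw [h6]
    calc ℓ ^ S.betti i * (ℓ ^ (S.betti i * b) * k (S.T i) ℓ b)
        = ℓ ^ (S.betti i * (b + 1)) * k (S.T i) ℓ b := by ring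
      _ ≤ _ := Nat.mul_le_mul_left _ h7
  exact h9.trans (Nat.card_le_card_of_injective (AddSubgroup.inclusion hP)
    (AddSubgroup.inclusion_injective _))

end sys

section module

variable {ℓ : ℕ} [hℓ : Fact ℓ.Prime]

theorem zmod_torsion {ν : ℕ} (a : ZMod (ℓ ^ (ν + 1))) (h : (ℓ : ZMod (ℓ ^ (ν + 1))) * a = 0) :
    ∃ b : ℤ, a = (((ℓ : ℤ) ^ ν * b : ℤ) : ZMod (ℓ ^ (ν + 1))) := by
  obtain ⟨n, rfl⟩ := ZMod.intCast_surjective a
  have h1 : (((ℓ : ℤ) * n : ℤ) : ZMod (ℓ ^ (ν + 1))) = 0 := by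
    push_cast
    exact h
  rw [ZMod.intCast_zmod_eq_zero_iff_dvd] at h1
  push_cast at h1
  rw [pow_succ'] at h1
  obtain ⟨b, rfl⟩ := (mul_dvd_mul_iff_left (show (ℓ : ℤ) ≠ 0 by exact_mod_cast hℓ.out.ne_zero)).1 h1
  exact ⟨b, rfl⟩

theorem exists_family {K W : Type*} [Field K] [Finite K] [AddCommGroup W] [Module K W] [Finite W] (β : ℕ)
    (h : Nat.card K ^ β ≤ Nat.card W) : ∃ w : Fin β → W, LinearIndependent K w := by
  have : Module.Finite K W := Module.Finite.of_finite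
  have h1 : Nat.card W = Nat.card K ^ Module.finrank K W := Module.natCard_eq_pow_finrank
  have hβ : β ≤ Module.finrank K W := by
    rw [h1] at h
    exact (Nat.pow_le_pow_iff_right Finite.one_lt_card).1 h
  exact ⟨_, (Module.finBasis K W).linearIndependent.comp (Fin.castLE hβ) (Fin.castLE_injective hβ)⟩

/-- a free submodule -/
theorem exists_inj_aux {M : Type*} [AddCommGroup M] (ν β : ℕ) [Module (ZMod (ℓ ^ (ν + 1))) M]
    (W : AddSubgroup M) [Module (ZMod ℓ) W] (w : Fin β → W) (hli : LinearIndependent (ZMod ℓ) w)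
    (m : Fin β → M) (hm : ∀ i, ((ℓ : ℤ) ^ ν) • m i = (w i).1) :
    Function.Injective (Fintype.linearCombination (ZMod (ℓ ^ (ν + 1))) m) := by
  -- injectivity on the `ℓ`-torsion
  have key : ∀ y : Fin β → ZMod (ℓ ^ (ν + 1)), (∀ i, (ℓ : ZMod (ℓ ^ (ν + 1))) * y i = 0) →
      Fintype.linearCombination (ZMod (ℓ ^ (ν + 1))) m y = 0 → y = 0 := by
    intro y hy hφ
    choose b hb using fun i => zmod_torsion (y i) (hy i)
    have h1 : ∑ i, (b i : ZMod ℓ) • w i = 0 := by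
      refine Subtype.ext ?_
      rw [AddSubgroup.val_finsetSum]
      rw [Fintype.linearCombination_apply] at hφ
      rw [AddSubgroup.coe_zero, ← hφ]
      refine Finset.sum_congr rfl fun i _ => ?_
      rw [hb i, Int.cast_smul_eq_zsmul, Int.cast_smul_eq_zsmul, AddSubgroup.coe_zsmul, ← hm i, smul_smul,
        mul_comm]
    have h5 := Fintype.linearIndependent_iff.1 hli (fun i => (b i : ZMod ℓ)) h1
    funext i
    have h6 := h5 i
    rw [ZMod.intCast_zmod_eq_zero_iff_dvd] at h6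
    obtain ⟨c, hc⟩ := h6
    rw [hb i, hc]
    rw [Pi.zero_apply, ZMod.intCast_zmod_eq_zero_iff_dvd]
    exact ⟨c, by push_cast; ring⟩
  rw [injective_iff_map_eq_zero]
  intro x hx
  by_contra hne
  -- the last nonzero multiple by a power of `ℓ`
  have hex : ∃ j : ℕ, ((ℓ : ZMod (ℓ ^ (ν + 1))) ^ j) • x = 0 := ⟨ν + 1, by
    have : ((ℓ : ZMod (ℓ ^ (ν + 1))) ^ (ν + 1)) = 0 := by
      rw [← Nat.cast_pow]
      exact ZMod.natCast_self _
    rw [this, zero_smul]⟩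
  classical
  obtain ⟨j, hj⟩ : ∃ j, Nat.find hex = j + 1 := by
    refine Nat.exists_eq_succ_of_ne_zero fun h0 => hne ?_
    have h7 := Nat.find_spec hex
    rw [h0, pow_zero, one_smul] at h7
    exact h7
  have h8 : ((ℓ : ZMod (ℓ ^ (ν + 1))) ^ j) • x ≠ 0 := Nat.find_min hex (by omega)
  refine h8 (key _ (fun i => ?_) ?_)
  · have h9 := Nat.find_spec hex
    rw [hj] at h9
    have h10 : (ℓ : ZMod (ℓ ^ (ν + 1))) ^ (j + 1) * x i = 0 := congrFun h9 i
    rw [pow_succ' (ℓ : ZMod (ℓ ^ (ν + 1))) j, mul_assoc] at h10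
    exact h10
  · rw [map_smul, hx, smul_zero]

theorem exists_inj {M : Type*} [AddCommGroup M] [Finite M] (ν β : ℕ)
    (hM : ∀ x : M, (ℓ ^ (ν + 1)) • x = 0)
    (h : ℓ ^ β ≤ Nat.card (mulHom M ((ℓ : ℤ) ^ ν)).range) :
    ∃ φ : (Fin β → ZMod (ℓ ^ (ν + 1))) →+ M, Function.Injective φ := by
  let W := (mulHom M ((ℓ : ℤ) ^ ν)).range
  have hW : ∀ x : W, ℓ • x = 0 := by
    rintro ⟨_, y, rfl⟩
    refine Subtype.ext ?_
    change ℓ • (((ℓ : ℤ) ^ ν) • y) = 0
    have h1 := hM y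
    rw [← natCast_zsmul, smul_smul]
    rw [← natCast_zsmul] at h1
    push_cast at h1
    rwa [pow_succ'] at h1
  have hWf : Finite W := Finite.of_injective _ Subtype.val_injective
  let i1 : Module (ZMod (ℓ ^ (ν + 1))) M := AddCommGroup.zmodModule hM
  let i2 : Module (ZMod ℓ) W := AddCommGroup.zmodModule hW
  obtain ⟨w, hw⟩ := @exists_family (ZMod ℓ) W _ _ _ i2 hWf β (by rw [Nat.card_zmod]; exact h)
  have hm : ∀ i, ∃ m : M, ((ℓ : ℤ) ^ ν) • m = (w i).1 := fun i => (w i).2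
  choose m hm using hm
  exact ⟨(@Fintype.linearCombination (Fin β) M (ZMod (ℓ ^ (ν + 1))) _ _ _ i1 m).toAddMonoidHom,
    @exists_inj_aux ℓ _ M _ ν β i1 W i2 w hw m hm⟩

theorem card_ker_nsmul_le (n N : ℕ) [NeZero n] (hN : 0 < N) :
    Nat.card {a : ZMod n // N • a = 0} ≤ N := by
  classical
  rw [Nat.card_eq_fintype_card, Fintype.card_subtype]
  exact IsAddCyclic.card_nsmul_eq_zero_le hN

theorem card_ker_le {M : Type*} [AddCommGroup M] (n N β : ℕ) [NeZero n] (hN : 0 < N)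
    (φ : (Fin β → ZMod n) →+ M) (hφ : Function.Injective φ) : Nat.card (N • φ).ker ≤ N ^ β := by
  let f : (N • φ).ker → (Fin β → {a : ZMod n // N • a = 0}) := fun x i => ⟨x.1 i, by
    have h1 : N • φ x.1 = 0 := x.2
    rw [← map_nsmul] at h1
    exact congrFun (hφ (h1.trans (map_zero φ).symm)) i⟩
  have hf : Function.Injective f := fun x y hxy => Subtype.ext (funext fun i =>
    congrArg Subtype.val (congrFun hxy i))
  refine (Nat.card_le_card_of_injective f hf).trans ?_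
  rw [Nat.card_fun, Nat.card_eq_fintype_card (α := Fin β), Fintype.card_fin]
  exact Nat.pow_le_pow_left (card_ker_nsmul_le n N hN) β

end module

section main

variable (X : Scheme.{u}) (ℓ : ℕ) [hℓ : Fact ℓ.Prime] (hfin : ∀ i, Finite (EtAdic.Hmod X ℓ i 1))

include hfin in
theorem card_range_ge (i ν : ℕ) : ℓ ^ EtAdic.betti X ℓ i ≤
    Nat.card (mulHom (EtAdic.Hmod X ℓ i (ν + 1)) ((ℓ : ℤ) ^ ν)).range := by
  rw [Betti.betti_eq]
  exact card_pow_mul_ge (BettiSys.isSys (BettiFin.finite_A X ℓ hfin)).toSys i ν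

include hfin in
theorem exists_phi (i N : ℕ) (hN : 0 < N) : ∃ C : ℕ, ∀ (ν : ℕ) (M : Type) [AddCommGroup M]
    (_ : M ≃+ EtAdic.Hmod X ℓ i ν), ∃ φ : (Fin (EtAdic.betti X ℓ i) → ZMod (ℓ ^ ν)) →+ M,
      (∀ x, ∃ m, φ x = N • m) ∧ Nat.card φ.ker ≤ C ∧ Nat.card (M ⧸ φ.range) ≤ C := by
  obtain ⟨C, hC⟩ := Growth.card_bounded X ℓ hfin i
  have hℓ0 := hℓ.out.pos
  refine ⟨(ℓ ^ C + 1) * N ^ EtAdic.betti X ℓ i, fun ν M _ e => ?_⟩
  have hpos : 0 < N ^ EtAdic.betti X ℓ i := Nat.pow_pos hN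
  have f1 : Finite (EtAdic.Hmod X ℓ i ν) := Growth.finite_Hmod X ℓ hfin i ν
  have f2 : Finite M := Finite.of_equiv _ e.symm.toEquiv
  cases ν with
  | zero =>
    have hM : ∀ x : M, x = 0 := fun x => by
      have h2 : (ℓ ^ 0) • x = 0 := e.injective (by
        rw [map_nsmul, map_zero]
        exact Growth2.pow_smul_eq_zero X ℓ hfin i 0 (e x))
      rwa [pow_zero, one_smul] at h2
    have : Subsingleton M := ⟨fun x y => by rw [hM x, hM y]⟩
    have : Subsingleton (ZMod (ℓ ^ 0)) := by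
      rw [pow_zero]
      infer_instance
    refine ⟨0, fun x => ⟨0, Subsingleton.elim _ _⟩, ?_, ?_⟩
    · refine (Finite.card_subtype_le _).trans ?_
      rw [Nat.card_unique]
      exact Nat.mul_pos (Nat.succ_pos _) hpos
    · have : Subsingleton (M ⧸ (0 : (Fin (EtAdic.betti X ℓ i) → ZMod (ℓ ^ 0)) →+ M).range) :=
        (QuotientAddGroup.mk_surjective).subsingleton
      rw [Nat.card_unique]
      exact Nat.mul_pos (Nat.succ_pos _) hpos
  | succ ν =>
    have hM : ∀ x : M, (ℓ ^ (ν + 1)) • x = 0 := fun x => e.injective (by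
      rw [map_nsmul, map_zero]
      exact Growth2.pow_smul_eq_zero X ℓ hfin i (ν + 1) (e x))
    have hr : Nat.card (mulHom M ((ℓ : ℤ) ^ ν)).range =
        Nat.card (mulHom (EtAdic.Hmod X ℓ i (ν + 1)) ((ℓ : ℤ) ^ ν)).range := by
      refine Nat.card_congr (e.toEquiv.subtypeEquiv fun x => ?_)
      constructor
      · rintro ⟨y, rfl⟩
        exact ⟨e y, (map_zsmul e _ _).symm⟩
      · rintro ⟨y, hy⟩
        refine ⟨e.symm y, e.injective ?_⟩
        rw [mulHom_apply, map_zsmul, e.apply_symm_apply]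
        exact hy
    obtain ⟨φ₀, hφ₀⟩ := exists_inj (M := M) ν (EtAdic.betti X ℓ i) hM
      (by rw [hr]; exact card_range_ge X ℓ hfin i ν)
    have hne : NeZero (ℓ ^ (ν + 1)) := ⟨(Nat.pow_pos hℓ0).ne'⟩
    have hker := card_ker_le (ℓ ^ (ν + 1)) N (EtAdic.betti X ℓ i) hN φ₀ hφ₀
    refine ⟨N • φ₀, fun x => ⟨φ₀ x, rfl⟩, hker.trans (Nat.le_mul_of_pos_left _ (Nat.succ_pos _)), ?_⟩
    obtain ⟨e', he', hcard⟩ := hC (ν + 1)
    have c0 : Nat.card M = ℓ ^ (EtAdic.betti X ℓ i * (ν + 1) + e') := (Nat.card_congr e.toEquiv).trans hcard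
    have cA : Nat.card (Fin (EtAdic.betti X ℓ i) → ZMod (ℓ ^ (ν + 1))) =
        ℓ ^ (EtAdic.betti X ℓ i * (ν + 1)) := by
      rw [Nat.card_fun, Nat.card_zmod, Nat.card_eq_fintype_card (α := Fin _), Fintype.card_fin, ← pow_mul,
        mul_comm]
    have c1 := AddSubgroup.card_mul_index (N • φ₀).range
    have c2 : Nat.card (Fin (EtAdic.betti X ℓ i) → ZMod (ℓ ^ (ν + 1))) =
        Nat.card (N • φ₀).ker * Nat.card (N • φ₀).range := card_eq_ker_mul_range (N • φ₀)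
    have c3 : 0 < Nat.card (N • φ₀).range := by
      have : Finite (N • φ₀).range := Finite.of_injective _ Subtype.val_injective
      exact Nat.card_pos
    have c4 : (N • φ₀).range.index = ℓ ^ e' * Nat.card (N • φ₀).ker := by
      apply Nat.eq_of_mul_eq_mul_left c3
      rw [c1, c0, pow_add, ← cA, c2]
      ring
    change (N • φ₀).range.index ≤ _
    rw [c4]
    exact Nat.mul_le_mul ((Nat.pow_le_pow_right hℓ0 he').trans (Nat.le_succ _)) hker

end main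

end K112.LH
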