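import Groth.Agent.EtAdic.K112.LHTrunc
import Groth.Agent.EtAdic.K112.LHStruct
import Groth.Agent.Sga7.H754.HDer

/-!
# Hypercohomology of constant sheaves of bounded order
-/

set_option autoImplicit false
set_option linter.unusedSectionVars false
universe u

open CategoryTheory CategoryTheory.Limits AlgebraicGeometry Opposite DerivedCategory
open CategoryTheory.Pretriangulated
open scoped Groth.Agent.Etcore.EtInst
open Groth.Agent.Etcore.EtInst Groth.Agent.Etcore.HpullCalc Groth.Agent.Etcore.HC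

attribute [local instance] HasDerivedCategory.standard

namespace K112.LH

open Groth.Agent.Sga4h.LPull Groth.Agent.Sga7.H754.HDer Groth.Agent.Lefpen.H710.BettiSys

variable (Y : Scheme.{u})

/-- hypercohomology in degree `0`, as a homological functor. -/
noncomputable abbrev FH : D Y ⥤ AddCommGrpCat := preadditiveCoyoneda.obj (op (Z0 Y))

variable {Y}

theorem hs_subsingleton (N : D Y) (a j : ℤ) [N.IsGE a] (h : j < a) : Subsingleton (Hs (FH Y) j N) := by
  have h3 : (N⟦j⟧).IsGE (a - j) := TStructure.t.isGE_shift N a j (a - j) (by lia)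
  have h4 : ∀ φ : Z0 Y ⟶ N⟦j⟧, φ = 0 := fun φ => TStructure.t.zero φ 0 (a - j) (by lia)
  exact ⟨fun x y => (h4 x).trans (h4 y).symm⟩

theorem hs_ext (G : EtCoh.Ab Y) (n : ℕ) : Nonempty (Hs (FH Y) (n : ℤ) (S0 G) ≃ HH Y G n) :=
  ⟨(Abelian.Ext.homEquiv (X := EtCoh.const Y ℤ) (Y := G) (n := n)).symm⟩

theorem cd_ext (G : EtCoh.Ab Y) (n : ℕ) : cd (FH Y) (n : ℤ) (S0 G) = Nat.card (HH Y G n) := by
  obtain ⟨e⟩ := hs_ext G n
  exact Nat.card_congr e

theorem cd_neg (G : EtCoh.Ab Y) (n : ℤ) (hn : n < 0) : Finite (Hs (FH Y) n (S0 G)) ∧ cd (FH Y) n (S0 G) = 1 := by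
  have h : Subsingleton (Hs (FH Y) n (S0 G)) := hs_subsingleton (S0 G) 0 n hn
  have h2 : Nonempty (Hs (FH Y) n (S0 G)) := ⟨0⟩
  exact ⟨inferInstance, Nat.card_unique⟩

theorem fin_ext (G : EtCoh.Ab Y) (h : ∀ n : ℕ, Finite (HH Y G n)) (n : ℤ) : Finite (Hs (FH Y) n (S0 G)) := by
  obtain ⟨q, rfl⟩ | hi : (∃ q : ℕ, n = q) ∨ n < 0 := by
    rcases lt_or_ge n 0 with h | h
    · exact Or.inr h
    · exact Or.inl ⟨n.toNat, by lia⟩
  · obtain ⟨e⟩ := hs_ext G q
    have := h q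
    exact Finite.of_equiv _ e.symm
  · exact (cd_neg G n hi).1

section const

theorem isZero_const (K : Type) [AddCommGroup K] [Subsingleton K] : IsZero (EtCoh.const Y K) := by
  rw [IsZero.iff_id_eq_zero]
  have h1 := cm_zsmul_id Y (A := K) 1
  have h2 := cm_zsmul_id Y (A := K) 0
  rw [one_smul, one_smul] at h1
  rw [zero_smul, zero_smul] at h2
  rw [← h1, ← h2]
  congr 1
  ext x
  exact Subsingleton.elim _ _

variable {ℓ : ℕ} [hℓ : Fact ℓ.Prime] (hY : ∀ i, Finite (EtAdic.Hmod Y ℓ i 1))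

include hY in
theorem const_bound (e : ℕ) : ∀ (K : Type) [AddCommGroup K] [Finite K], Nat.card K = ℓ ^ e → ∀ n : ℤ,
    Finite (Hs (FH Y) n (S0 (EtCoh.const Y K))) ∧ cd (FH Y) n (S0 (EtCoh.const Y K)) ≤
      (cd (FH Y) n (S0 (EtCoh.const Y (ZMod (ℓ ^ 1))))) ^ e := by
  induction e with
  | zero =>
    intro K _ _ hK n
    rw [pow_zero] at hK
    have : Subsingleton K := (Nat.card_eq_one_iff_unique.1 hK).1
    have h1 : IsZero (S0 (EtCoh.const Y K)) := (singleFunctor _ 0).map_isZero (isZero_const K)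
    obtain ⟨h2, h3⟩ := isZero_iff_card (F := FH Y) (n := n) h1
    exact ⟨h2, by rw [h3, pow_zero]⟩
  | succ e ih =>
    intro K _ _ hK n
    obtain ⟨x, hx⟩ := exists_prime_addOrderOf_dvd_card' (G := K) ℓ (by rw [hK, pow_succ]; exact dvd_mul_left _ _)
    have hx1 : ℓ • x = 0 := by rw [← hx]; exact addOrderOf_nsmul_eq_zero x
    let φ : ZMod (ℓ ^ 1) →+ K := ZMod.lift (ℓ ^ 1) ⟨zmultiplesHom K x, by
      rw [zmultiplesHom_apply, natCast_zsmul, pow_one, hx1]⟩
    have hφ : Function.Injective φ := by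
      rw [injective_iff_map_eq_zero]
      intro a ha
      obtain ⟨m, rfl⟩ := ZMod.intCast_surjective a
      have h1 : m • x = 0 := by
        have h2 : φ (m : ZMod (ℓ ^ 1)) = m • x := ZMod.lift_coe _ _ _
        rw [← h2, ha]
      rw [← addOrderOf_dvd_iff_zsmul_eq_zero, hx] at h1
      rw [ZMod.intCast_zmod_eq_zero_iff_dvd]
      push_cast
      rwa [pow_one]
    let ψ : K →+ K ⧸ φ.range := QuotientAddGroup.mk' φ.range
    have hψ : Function.Surjective ψ := QuotientAddGroup.mk'_surjective _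
    have hex : Function.Exact φ ψ := by
      intro y
      exact QuotientAddGroup.eq_zero_iff y
    have hcard : Nat.card (K ⧸ φ.range) = ℓ ^ e := by
      have h1 := AddSubgroup.card_mul_index φ.range
      have h2 : Nat.card φ.range = ℓ := by
        rw [Nat.card_congr (AddMonoidHom.ofInjective hφ).symm.toEquiv, Nat.card_zmod, pow_one]
      rw [h2, hK, pow_succ' ℓ e] at h1
      exact Nat.eq_of_mul_eq_mul_left hℓ.out.pos h1
    have : Finite (K ⧸ φ.range) := Finite.of_surjective _ hψ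
    obtain ⟨w, hS⟩ := exists_shortExact Y φ ψ hφ hex hψ
    obtain ⟨f3, h3⟩ := ih (K ⧸ φ.range) hcard n
    have f1 : Finite (Hs (FH Y) n (S0 (EtCoh.const Y (ZMod (ℓ ^ 1))))) := fin_ext _ hY n
    have f1' : Finite ((FH Y).shift n |>.obj hS.singleTriangle.obj₁) := f1
    have f3' : Finite ((FH Y).shift n |>.obj hS.singleTriangle.obj₃) := f3
    obtain ⟨f2, h2⟩ := card_mid_le (((FH Y).shift n).map hS.singleTriangle.mor₁).hom
      (((FH Y).shift n).map hS.singleTriangle.mor₂).hom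
      (fun b hb => (ex₂ _ hS.singleTriangle_distinguished n b).1 hb)
    refine ⟨f2, h2.trans ?_⟩
    exact (Nat.mul_le_mul le_rfl h3).trans (le_of_eq (pow_succ' _ e).symm)

include hY in
theorem bddC_const {C : ℕ} (K : ℕ → Type) [∀ ν, AddCommGroup (K ν)] [∀ ν, Finite (K ν)]
    (h1 : ∀ ν, ∃ e, Nat.card (K ν) = ℓ ^ e) (h2 : ∀ ν, Nat.card (K ν) ≤ C) :
    BddC (FH Y) (fun ν => EtCoh.const Y (K ν)) := by
  intro n
  refine ⟨(cd (FH Y) n (S0 (EtCoh.const Y (ZMod (ℓ ^ 1))))) ^ C, fun ν => ?_⟩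
  obtain ⟨e, he⟩ := h1 ν
  obtain ⟨f, h⟩ := const_bound hY e (K ν) he n
  refine ⟨f, h.trans ?_⟩
  have f1 : Finite (Hs (FH Y) n (S0 (EtCoh.const Y (ZMod (ℓ ^ 1))))) := fin_ext _ hY n
  refine Nat.pow_le_pow_right (cd_pos f1) ?_
  have h3 := h2 ν
  rw [he] at h3
  exact (Nat.lt_pow_self hℓ.out.one_lt).le.trans h3

/-- kernel of a map of constant sheaves -/
noncomputable def kerIso {A B : Type} [AddCommGroup A] [AddCommGroup B] (φ : A →+ B) :
    kernel (cm Y φ) ≅ EtCoh.const Y φ.ker := by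
  have w := exists_shortExact Y φ.ker.subtype φ.rangeRestrict Subtype.val_injective
    (fun x => ⟨fun h => ⟨⟨x, congrArg Subtype.val h⟩, rfl⟩, fun ⟨y, hy⟩ => Subtype.ext (by
      rw [← hy]; exact y.2)⟩) φ.rangeRestrict_surjective
  have w' := exists_shortExact Y φ.range.subtype (QuotientAddGroup.mk' φ.range) Subtype.val_injective
    (fun x => ⟨fun h => ⟨⟨x, (QuotientAddGroup.eq_zero_iff x).1 h⟩, rfl⟩, fun ⟨y, hy⟩ => by
      rw [← hy]; exact (QuotientAddGroup.eq_zero_iff _).2 y.2⟩) (QuotientAddGroup.mk'_surjective _)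
  have e : cm Y φ = cm Y φ.rangeRestrict ≫ cm Y φ.range.subtype := by rw [cm_comp]; rfl
  have := w'.choose_spec.mono_f
  have : Mono (cm Y φ.range.subtype) := this
  refine eqToIso (by rw [e]) ≪≫ kernelCompMono (cm Y φ.rangeRestrict) (cm Y φ.range.subtype) ≪≫
    (kernelIsKernel _).conePointUniqueUpToIso w.choose_spec.fIsKernel

/-- cokernel of a map of constant sheaves -/
noncomputable def cokerIso {A B : Type} [AddCommGroup A] [AddCommGroup B] (φ : A →+ B) :
    cokernel (cm Y φ) ≅ EtCoh.const Y (B ⧸ φ.range) := by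
  have w := exists_shortExact Y φ.ker.subtype φ.rangeRestrict Subtype.val_injective
    (fun x => ⟨fun h => ⟨⟨x, congrArg Subtype.val h⟩, rfl⟩, fun ⟨y, hy⟩ => Subtype.ext (by
      rw [← hy]; exact y.2)⟩) φ.rangeRestrict_surjective
  have w' := exists_shortExact Y φ.range.subtype (QuotientAddGroup.mk' φ.range) Subtype.val_injective
    (fun x => ⟨fun h => ⟨⟨x, (QuotientAddGroup.eq_zero_iff x).1 h⟩, rfl⟩, fun ⟨y, hy⟩ => by
      rw [← hy]; exact (QuotientAddGroup.eq_zero_iff _).2 y.2⟩) (QuotientAddGroup.mk'_surjective _)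
  have e : cm Y φ = cm Y φ.rangeRestrict ≫ cm Y φ.range.subtype := by rw [cm_comp]; rfl
  have := w.choose_spec.epi_g
  have : Epi (cm Y φ.rangeRestrict) := this
  refine eqToIso (by rw [e]) ≪≫ cokernelEpiComp (cm Y φ.rangeRestrict) (cm Y φ.range.subtype) ≪≫
    (cokernelIsCokernel _).coconePointUniqueUpToIso w'.choose_spec.gIsCokernel

include hY in
theorem bddM_const {C : ℕ} (A B : ℕ → Type) [∀ ν, AddCommGroup (A ν)] [∀ ν, AddCommGroup (B ν)]
    [∀ ν, Finite (A ν)] [∀ ν, Finite (B ν)] (φ : ∀ ν, A ν →+ B ν)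
    (hA : ∀ ν, ∃ e, Nat.card (A ν) = ℓ ^ e) (hB : ∀ ν, ∃ e, Nat.card (B ν) = ℓ ^ e)
    (h1 : ∀ ν, Nat.card (φ ν).ker ≤ C) (h2 : ∀ ν, Nat.card (B ν ⧸ (φ ν).range) ≤ C) :
    BddM (FH Y) (fun ν => cm Y (φ ν)) := by
  refine ⟨BddC.of_iso (bddC_const hY (C := C) (fun ν => (φ ν).ker) (fun ν => ?_) h1)
    (fun ν => (kerIso (φ ν)).symm), BddC.of_iso (bddC_const hY (C := C) (fun ν => B ν ⧸ (φ ν).range)
      (fun ν => ?_) h2) (fun ν => (cokerIso (φ ν)).symm)⟩
  · obtain ⟨e, he⟩ := hA ν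
    have h3 : Nat.card (φ ν).ker ∣ ℓ ^ e := by
      rw [← he]
      exact AddSubgroup.card_addSubgroup_dvd_card _
    obtain ⟨z, -, hz⟩ := (Nat.dvd_prime_pow hℓ.out).1 h3
    exact ⟨z, hz⟩
  · obtain ⟨e, he⟩ := hB ν
    have h3 : Nat.card (B ν ⧸ (φ ν).range) ∣ ℓ ^ e := by
      rw [← he, ← AddSubgroup.card_mul_index (φ ν).range]
      exact Dvd.intro_left _ rfl
    obtain ⟨z, -, hz⟩ := (Nat.dvd_prime_pow hℓ.out).1 h3
    exact ⟨z, hz⟩

end const

end K112.LH
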