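import Groth.Agent.EtAdic.K112.LHProj
import Groth.Agent.Sga7.H754.TotRes
import Groth.Agent.Lefpen.H719.H0Const
import Groth.Agent.Sga4B.DiagB.Null
import Groth.Agent.Sga4h.PointConst
import Groth.Agent.Lefpen.H710.BettiSys

/-!
# Restriction of classes to a fibre and the higher direct images
-/

set_option autoImplicit false
set_option linter.unusedSectionVars false
universe u

open CategoryTheory CategoryTheory.Limits AlgebraicGeometry Opposite DerivedCategory
open scoped Groth.Agent.Etcore.EtInst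
open Groth.Agent.Etcore.EtInst Groth.Agent.Etcore.HpullCalc Groth.Agent.Etcore.HC

attribute [local instance] HasDerivedCategory.standard

namespace K112.LH

open Groth.Agent.Sga4h.LPull Groth.Agent.Sga7.H754.HDer Groth.Agent.Lefpen.H710.BettiSys
  Groth.Agent.Sga4h.RPair Groth.Agent.Etrest.DEtPush

section abs

/-- additive version of `Iso.homCongr`. -/
def homIso {C : Type*} [Category* C] [Preadditive C] {X X' Y Y' : C} (α : X ≅ X') (β : Y ≅ Y') :
    (X ⟶ Y) ≃+ (X' ⟶ Y') where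
  toEquiv := α.homCongr β
  map_add' a b := by
    change α.inv ≫ (a + b) ≫ β.hom = α.inv ≫ a ≫ β.hom + α.inv ≫ b ≫ β.hom
    rw [Preadditive.add_comp, Preadditive.comp_add]

theorem homIso_apply {C : Type*} [Category* C] [Preadditive C] {X X' Y Y' : C} (α : X ≅ X') (β : Y ≅ Y')
    (a : X ⟶ Y) : homIso α β a = α.inv ≫ a ≫ β.hom := rfl

variable {A : Type*} [Category* A] [Preadditive A] {B : Type*} [Category* B] [Preadditive B]

/-- every morphism `G Z ⟶ G K` becomes the image of a morphism after multiplication by `N`. -/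
def NSurj (G : A ⥤ B) (N : ℕ) (Z K : A) : Prop := ∀ φ : G.obj Z ⟶ G.obj K, ∃ x : Z ⟶ K, G.map x = N • φ

theorem NSurj.iso {G : A ⥤ B} {N : ℕ} {Z Z' K K' : A} (h : NSurj G N Z K) (e : Z ≅ Z') (e' : K ≅ K') :
    NSurj G N Z' K' := fun φ => by
  obtain ⟨x, hx⟩ := h (G.map e.hom ≫ φ ≫ G.map e'.inv)
  refine ⟨e.inv ≫ x ≫ e'.hom, ?_⟩
  rw [Functor.map_comp, Functor.map_comp, hx, Preadditive.nsmul_comp, Preadditive.comp_nsmul]
  congr 1
  have h1 : G.map e.inv ≫ G.map e.hom = 𝟙 _ := by rw [← G.map_comp, e.inv_hom_id, G.map_id]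
  have h2 : G.map e'.inv ≫ G.map e'.hom = 𝟙 _ := by rw [← G.map_comp, e'.inv_hom_id, G.map_id]
  rw [Category.assoc, Category.assoc, h2, Category.comp_id, reassoc_of% h1]

section shift

variable [HasShift A ℤ] [HasShift B ℤ] [∀ n : ℤ, (shiftFunctor A n).Additive]
  [∀ n : ℤ, (shiftFunctor B n).Additive]

theorem NSurj.shift {G : A ⥤ B} [G.CommShift ℤ] {N : ℕ} {Z K : A} (h : NSurj G N Z K) (n : ℤ) :
    NSurj G N (Z⟦n⟧) (K⟦n⟧) := fun φ => by
  let i := G.commShiftIso n
  obtain ⟨ψ, hψ⟩ := (shiftFunctor B n).map_surjective (i.inv.app Z ≫ φ ≫ i.hom.app K)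
  obtain ⟨x, hx⟩ := h ψ
  refine ⟨x⟦n⟧', ?_⟩
  have h1 : G.map (x⟦n⟧') ≫ i.hom.app K = i.hom.app Z ≫ (G.map x)⟦n⟧' := i.hom.naturality x
  rw [← cancel_mono (i.hom.app K), h1, hx, (shiftFunctor B n).map_nsmul, hψ, Preadditive.comp_nsmul,
    Iso.hom_inv_id_app_assoc, Preadditive.nsmul_comp]

end shift

variable {A' : Type*} [Category* A'] [Preadditive A'] {B' : Type*} [Category* B'] [Preadditive B']
  {Φ : A ⥤ B} {G : A ⥤ A'} {G' : B ⥤ B'} {Φ' : A' ⥤ B'} [Φ'.Additive] (s : Sq Φ G G' Φ')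

theorem bc_map {M : A} {K : B} (ε : Φ.obj M ⟶ K) {W : A} (x : W ⟶ M) :
    Φ'.map (G.map x) ≫ s.bc ε = s.σ.hom.app W ≫ G'.map (Φ.map x ≫ ε) := by
  have h := s.σ.hom.naturality x
  have h' : Φ'.map (G.map x) ≫ s.σ.hom.app M = s.σ.hom.app W ≫ G'.map (Φ.map x) := h
  rw [Sq.bc, reassoc_of% h', Functor.map_comp]

/-- Base change transports `NSurj`. -/
theorem nSurj_of_bc {M : A} {K : B} {ε : Φ.obj M ⟶ K} (hε : IsUniv Φ ε) (hbc : IsUniv Φ' (s.bc ε))
    {N : ℕ} {W : A} (h : NSurj G' N (Φ.obj W) K) : NSurj G N W M := fun χ => by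
  obtain ⟨x, hx⟩ := h (s.σ.inv.app W ≫ Φ'.map χ ≫ s.bc ε)
  refine ⟨hε.lift x, hbc.hom_ext ?_⟩
  rw [bc_map, hε.fac, hx, Preadditive.comp_nsmul, Iso.hom_inv_id_app_assoc, Φ'.map_nsmul,
    Preadditive.nsmul_comp]

/-- the bijection given by a universal pair. -/
noncomputable def univEquiv {M : A'} {K : B'} {ε : Φ'.obj M ⟶ K} (hε : IsUniv Φ' ε) (W : A') :
    (W ⟶ M) ≃+ (Φ'.obj W ⟶ K) :=
  AddEquiv.ofBijective (AddMonoidHom.mk' (fun φ => Φ'.map φ ≫ ε) (fun a b => by
    rw [Functor.map_add, Preadditive.add_comp])) (hε W)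

end abs

section point

variable {k : Type u} [Field k] [IsSepClosed k]

/-- morphisms between constant sheaves on a point -/
theorem exists_addEquiv_hom (M : Type) [AddCommGroup M] :
    Nonempty ((EtCoh.const (Spec (CommRingCat.of k)) ℤ ⟶ EtCoh.const (Spec (CommRingCat.of k)) M) ≃+ M) := by
  have hadd := additive_constantSheaf (Spec (CommRingCat.of k))
  let a := Groth.Agent.Sga4h.PointConst.adj (K := k)
  have : IsIso a.unit := by
    have := fun M => Groth.Agent.Sga4h.PointConst.isIso_unit (K := k) M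
    exact NatIso.isIso_of_isIso_app _
  have hff := a.fullyFaithfulLOfIsIsoUnit
  let e1 : (AddCommGrpCat.of (ULift.{u + 1} ℤ) ⟶ AddCommGrpCat.of (ULift.{u + 1} M)) ≃+
      (EtCoh.const (Spec (CommRingCat.of k)) ℤ ⟶ EtCoh.const (Spec (CommRingCat.of k)) M) :=
    AddEquiv.ofBijective ((constantSheaf (Spec (CommRingCat.of k)).smallEtaleTopology
      AddCommGrpCat.{u + 1}).mapAddHom) (hff.map_bijective _ _)
  let e2 : (AddCommGrpCat.of (ULift.{u + 1} ℤ) ⟶ AddCommGrpCat.of (ULift.{u + 1} M)) ≃+ M :=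
    { toFun := fun φ => (φ.hom (ULift.up 1)).down
      invFun := fun m => AddCommGrpCat.ofHom
        (AddEquiv.ulift.symm.toAddMonoidHom.comp (((zmultiplesHom M) m).comp
          (AddEquiv.ulift.toAddMonoidHom : ULift.{u + 1} ℤ →+ ℤ)))
      left_inv := fun φ => by
        apply AddCommGrpCat.hom_ext
        apply AddMonoidHom.ext
        rintro ⟨z⟩
        have h2 : (ULift.up z : ULift.{u + 1} ℤ) = z • (ULift.up (1 : ℤ)) := by
          apply ULift.down_injective
          simp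
        apply ULift.down_injective
        rw [h2, map_zsmul, map_zsmul]
        change z • ((1 : ℤ) • (φ.hom (ULift.up 1)).down) = z • (φ.hom (ULift.up 1)).down
        rw [one_smul]
      right_inv := fun m => by
        change (1 : ℤ) • m = m
        exact one_smul ℤ m
      map_add' := fun φ ψ => rfl }
  exact ⟨e1.symm.trans e2⟩

/-- pullback to a point is injective on maps between constant sheaves on a connected scheme -/
theorem pull_injective {Y : Scheme.{u}} [ConnectedSpace Y] (y : Spec (CommRingCat.of k) ⟶ Y) (M : Type)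
    [AddCommGroup M] (φ : EtCoh.const Y ℤ ⟶ EtCoh.const Y M) (h : (EtCoh.pull y).map φ = 0) : φ = 0 := by
  obtain ⟨ψ, rfl⟩ := Groth.Agent.Lefpen.H719.H0Const.exists_map_eq Y M φ
  have h1 := (EtCore.pullConstIso y).hom.naturality ψ
  have h2 : (constantSheaf (Spec (CommRingCat.of k)).smallEtaleTopology AddCommGrpCat.{u + 1}).map ψ = 0 := by
    rw [← cancel_epi ((EtCore.pullConstIso y).hom.app (AddCommGrpCat.of (ULift.{u + 1} ℤ))), comp_zero]
    refine h1.symm.trans ?_
    have h3 : (constantSheaf Y.smallEtaleTopology AddCommGrpCat.{u + 1} ⋙ EtCoh.pull y).map ψ = 0 := h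
    rw [h3, zero_comp]
  have hadd := additive_constantSheaf (Spec (CommRingCat.of k))
  have hadd' := additive_constantSheaf Y
  let a := Groth.Agent.Sga4h.PointConst.adj (K := k)
  have : IsIso a.unit := by
    have := fun M => Groth.Agent.Sga4h.PointConst.isIso_unit (K := k) M
    exact NatIso.isIso_of_isIso_app _
  have hff := a.fullyFaithfulLOfIsIsoUnit
  have h4 : ψ = 0 := hff.map_injective (by
    rw [Functor.map_zero]
    exact h2)
  rw [h4, Functor.map_zero]

/-- morphisms out of the pullback of `ℤ[-t]` to a point -/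
theorem bij_point {Y : Scheme.{u}} (y : Spec (CommRingCat.of k) ⟶ Y) (t : ℤ)
    (Q : D (Spec (CommRingCat.of k))) :
    Function.Bijective (fun φ : (L y).obj ((singleFunctor _ t).obj (EtCoh.const Y ℤ)) ⟶ Q =>
      (homologyFunctor _ t).map φ) := by
  have := Groth.Agent.Sga4B.DiagB.projective_const k
  let e : (L y).obj ((singleFunctor _ t).obj (EtCoh.const Y ℤ)) ≅
      (singleFunctor _ t).obj (EtCoh.const (Spec (CommRingCat.of k)) ℤ) :=
    ((EtCoh.pull y).mapDerivedCategorySingleFunctor t).app _ ≪≫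
      (singleFunctor _ t).mapIso (EtCore.pullConst y ℤ)
  have h := bij_homology (EtCoh.const (Spec (CommRingCat.of k)) ℤ) t Q
  have h2 : (fun φ : (L y).obj ((singleFunctor _ t).obj (EtCoh.const Y ℤ)) ⟶ Q =>
      (homologyFunctor _ t).map φ) = (homIso ((homologyFunctor _ t).mapIso e).symm (Iso.refl _)) ∘
        (fun φ : (singleFunctor _ t).obj (EtCoh.const (Spec (CommRingCat.of k)) ℤ) ⟶ Q =>
          (homologyFunctor _ t).map φ) ∘ (homIso e (Iso.refl _)) := by
    funext φ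
    change _ = (homologyFunctor _ t).map e.hom ≫ (homologyFunctor _ t).map (e.inv ≫ φ ≫ 𝟙 _) ≫ 𝟙 _
    rw [Category.comp_id, Category.comp_id, ← Functor.map_comp, Iso.hom_inv_id_assoc]
  rw [h2]
  exact (homIso _ _).bijective.comp (h.comp (homIso _ _).bijective)

end point

section cls

variable {X Y F : Scheme.{u}} (g : F ⟶ X)

/-- morphisms after derived pullback and cohomology classes -/
noncomputable def clsEquiv (G : EtCoh.Ab X) (t : ℕ) :
    ((L g).obj (Z0 X) ⟶ (L g).obj ((S0 G)⟦(t : ℤ)⟧)) ≃+ HH F ((EtCoh.pull g).obj G) t :=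
  (homIso (LZ0 g) (((L g).commShiftIso (t : ℤ)).app (S0 G) ≪≫ (shiftFunctor _ (t : ℤ)).mapIso
    (((EtCoh.pull g).mapDerivedCategorySingleFunctor 0).app G))).trans
    (Abelian.Ext.homAddEquiv (X := EtCoh.const F ℤ) (Y := (EtCoh.pull g).obj G) (n := t)).symm

theorem clsEquiv_map (G : EtCoh.Ab X) (t : ℕ) (x : HH X G t) :
    clsEquiv g G t ((L g).map (Abelian.Ext.homEquiv x)) = hp g G t x := by
  apply (Abelian.Ext.homAddEquiv (X := EtCoh.const F ℤ) (Y := (EtCoh.pull g).obj G) (n := t)).injective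
  refine (AddEquiv.apply_symm_apply _ _).trans ?_
  exact Eq.trans (by rfl) (hp_hom g G t x).symm

theorem nSurj_of_cls (M : Type) [AddCommGroup M] (t N : ℕ)
    (h : ∀ c : HH F (EtCoh.const F M) t, ∃ z : HH X (EtCoh.const X M) t, HC M g t z = N • c) :
    NSurj (L g) N (Z0 X) ((S0 (EtCoh.const X M))⟦(t : ℤ)⟧) := fun φ => by
  obtain ⟨z, hz⟩ := h (HHmap (EtCore.pullConst g M).hom t (clsEquiv g _ t φ))
  rw [HC_apply, ← map_nsmul] at hz
  have hz' := (HHmap_bijective (EtCore.pullConst g M).hom t).1 hz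
  refine ⟨Abelian.Ext.homEquiv z, (clsEquiv g (EtCoh.const X M) t).injective ?_⟩
  rw [clsEquiv_map, hz', map_nsmul]

variable (f : X ⟶ Y)

/-- `f^* (ℤ[-t]) = ℤ[0][-t]` -/
noncomputable def wIso (t : ℤ) : (L f).obj ((singleFunctor _ t).obj (EtCoh.const Y ℤ)) ≅
    (Z0 X)⟦-t⟧ :=
  ((EtCoh.pull f).mapDerivedCategorySingleFunctor t).app _ ≪≫
      (singleFunctor _ t).mapIso (EtCore.pullConst f ℤ) ≪≫ (sIso t).app _

theorem nSurj_w (K : D X) (t : ℤ) (N : ℕ) (h : NSurj (L g) N (Z0 X) (K⟦t⟧)) :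
    NSurj (L g) N ((L f).obj ((singleFunctor _ t).obj (EtCoh.const Y ℤ))) K :=
  (h.shift (-t)).iso (wIso f t).symm ((shiftFunctorCompIsoId _ t (-t) (by lia)).app K)

end cls

end K112.LH
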