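import Groth.Agent.EtAdic.K112.LHFib

/-!
# Lifting sections of higher direct images to classes
-/

set_option autoImplicit false
set_option linter.unusedSectionVars false
universe u

open CategoryTheory CategoryTheory.Limits AlgebraicGeometry Opposite DerivedCategory
open scoped Groth.Agent.Etcore.EtInst
open Groth.Agent.Etcore.EtInst Groth.Agent.Etcore.HpullCalc Groth.Agent.Etcore.HC

attribute [local instance] HasDerivedCategory.standard

namespace K112.LH

open Groth.Agent.Sga4h.LPull Groth.Agent.Sga7.H754.HDer Groth.Agent.Lefpen.H710.BettiSys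
  Groth.Agent.Sga4h.RPair Groth.Agent.Etrest.DEtPush Groth.Agent.Etrest.DEtMate

section main

variable {k : Type u} [Field k] [IsSepClosed k]

/-- **Edge maps.** Lifting sections of `H^t(P)` to classes, up to multiplication by `N`. -/
theorem exists_class {Y : Scheme.{u}} [ConnectedSpace Y] (y : Spec (CommRingCat.of k) ⟶ Y) (P : D Y)
    (t : ℤ) (N : ℕ) (hN : NSurj (L y) N ((singleFunctor _ t).obj (EtCoh.const Y ℤ)) P) (M : Type)
    [AddCommGroup M] (θ : EtCoh.const Y M ≅ (homologyFunctor _ t).obj P)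
    (φ : EtCoh.const Y ℤ ⟶ EtCoh.const Y M) :
    ∃ u : (singleFunctor _ t).obj (EtCoh.const Y ℤ) ⟶ P, hmap t u = N • (φ ≫ θ.hom) := by
  let W : D Y := (singleFunctor _ t).obj (EtCoh.const Y ℤ)
  let h : L y ⋙ homologyFunctor _ t ≅ homologyFunctor _ t ⋙ EtCoh.pull y :=
    Groth.Agent.Dcoh.MapDer.homologyMapDer (EtCoh.pull y) t
  let c := singleFunctorCompHomologyFunctorIso (EtCoh.Ab Y) t
  let c' : EtCoh.const Y ℤ ⟶ (homologyFunctor _ t).obj W := c.inv.app (EtCoh.const Y ℤ)
  let b : (homologyFunctor _ t).obj ((L y).obj W) ⟶ (homologyFunctor _ t).obj ((L y).obj P) :=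
    h.hom.app W ≫ (EtCoh.pull y).map (c.hom.app (EtCoh.const Y ℤ) ≫ φ ≫ θ.hom) ≫ h.inv.app P
  obtain ⟨χ, hχ⟩ := (bij_point y t ((L y).obj P)).2 b
  obtain ⟨u, hu⟩ := hN χ
  refine ⟨u, ?_⟩
  have hχ' : (homologyFunctor _ t).map χ = b := hχ
  have h1 : (homologyFunctor _ t).map ((L y).map u) ≫ h.hom.app P =
      h.hom.app W ≫ (EtCoh.pull y).map ((homologyFunctor _ t).map u) := h.hom.naturality u
  have h2 : (EtCoh.pull y).map ((homologyFunctor _ t).map u) =
      N • (EtCoh.pull y).map (c.hom.app (EtCoh.const Y ℤ) ≫ φ ≫ θ.hom) := by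
    rw [← cancel_epi (h.hom.app W), ← h1, hu, Functor.map_nsmul, hχ', Preadditive.nsmul_comp,
      Preadditive.comp_nsmul]
    congr 1
    change (h.hom.app W ≫ _ ≫ h.inv.app P) ≫ h.hom.app P = _
    rw [Category.assoc, Category.assoc, Iso.inv_hom_id_app]
    exact congrArg (fun x => h.hom.app W ≫ x) (Category.comp_id _)
  have h3 : c' ≫ (homologyFunctor _ t).map u ≫ θ.inv - N • φ = 0 := by
    refine pull_injective y M _ ?_
    have e1 : (EtCoh.pull y).map c' ≫ (EtCoh.pull y).map (c.hom.app (EtCoh.const Y ℤ)) = 𝟙 _ := by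
      rw [← Functor.map_comp]
      refine (congrArg (EtCoh.pull y).map (c.inv_hom_id_app (EtCoh.const Y ℤ))).trans ?_
      exact CategoryTheory.Functor.map_id _ _
    have e2 : (EtCoh.pull y).map θ.hom ≫ (EtCoh.pull y).map θ.inv = 𝟙 _ := by
      rw [← Functor.map_comp, θ.hom_inv_id, CategoryTheory.Functor.map_id]
    rw [Functor.map_sub, Functor.map_comp, Functor.map_comp, h2, Functor.map_nsmul, Functor.map_comp,
      Functor.map_comp, Preadditive.nsmul_comp, Preadditive.comp_nsmul, ← smul_sub]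
    simp only [Category.assoc]
    rw [e2, reassoc_of% e1, Category.comp_id, sub_self, smul_zero]
  rw [sub_eq_zero] at h3
  rw [hmap, ← cancel_mono θ.inv, Category.assoc]
  refine h3.trans ?_
  rw [Preadditive.nsmul_comp, Category.assoc, θ.hom_inv_id, Category.comp_id]

variable {X Y F : Scheme.{u}} {f : X ⟶ Y} {y : Spec (CommRingCat.of k) ⟶ Y} {g : F ⟶ X}
    {p : F ⟶ Spec (CommRingCat.of k)} (w : g ≫ f = p ≫ y)

end main

section bc

variable {X Y F T : Scheme.{u}} {f : X ⟶ Y} {y : T ⟶ Y} {g : F ⟶ X}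
    {p : F ⟶ T} (w : g ≫ f = p ≫ y)

theorem nSurj_of_BC {K : D X} (hbc : Groth.Agent.Sga4h.GSq.BC w K) (t : ℤ) (N : ℕ)
    (h : NSurj (L g) N (Z0 X) (K⟦t⟧)) :
    NSurj (L y) N ((singleFunctor _ t).obj (EtCoh.const Y ℤ)) ((pushD f).obj K) := by
  have h1 := nSurj_w g f K t N h
  have hu := Groth.Agent.Sga4h.GSq.isUniv_pushD f K
  have hbc' : (Groth.Agent.Sga4h.RPair.sq (cmp w)).BC K := hbc
  have hu' := hbc'.isUniv hu
  have h1' : NSurj ((EtCoh.pull g).mapDerivedCategory) N (((EtCoh.pull f).mapDerivedCategory).obj ((singleFunctor _ t).obj (EtCoh.const Y ℤ))) K := h1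
  have h2 := nSurj_of_bc (Groth.Agent.Sga4h.RPair.sq (cmp w)) hu hu' h1'
  exact h2

end bc

end K112.LH
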