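import Groth.Agent.EtAdic.K112.LHMain
import Groth.Agent.EtAdic.K522.LHGroup
import Groth.Agent.EtAdic.K833.FieldRpush

/-!
# Leray–Hirsch for extensions of group varieties
-/

set_option autoImplicit false
universe u

open CategoryTheory CategoryTheory.Limits MonoidalCategory CartesianMonoidalCategory MonObj GrpObj AlgebraicGeometry
open scoped Groth.Agent.Etcore.EtInst
open Groth.Agent.Etcore.EtInst Groth.Agent.Etcore.HpullCalc Groth.Agent.Etcore.HC

attribute [local instance] HasDerivedCategory.standard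

namespace K112.LH

theorem finite_Hmod {k : Type u} [Field k] [IsSepClosed k] (ℓ : ℕ) [Fact ℓ.Prime] (hℓ : (ℓ : k) ≠ 0)
    {X : Scheme.{u}} (q : X ⟶ Spec (CommRingCat.of k)) [LocallyOfFiniteType q]
    [QuasiCompact q] (i ν : ℕ) : Finite (EtAdic.Hmod X ℓ i ν) := by
  have : NeZero (ℓ ^ ν) := neZero_pow ℓ ν
  refine K833.FieldRpush.finite_H (m := ℓ ^ ν) ?_ q _
    (Groth.Agent.Etrest.ConstBasic.isConstructible_const X (ZMod (ℓ ^ ν)))
    (Groth.Agent.Etrest.ConstBasic.killedBy_const _ (ZMod (ℓ ^ ν)) (ℓ ^ ν) (fun x => ?_)) i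
  · rw [Nat.cast_pow]
    exact pow_ne_zero _ hℓ
  · rw [nsmul_eq_mul, ZMod.natCast_self, zero_mul]

theorem group (k : Type u) [Field k] [IsAlgClosed k]
    (ℓ : ℕ) [Fact ℓ.Prime] (hℓ : (ℓ : k) ≠ 0)
    (K G Q : Over (Spec (CommRingCat.of k))) [GrpObj K] [GrpObj G] [GrpObj Q]
    [Smooth K.hom] [QuasiCompact K.hom] [ConnectedSpace ↥K.left]
    [Smooth G.hom] [QuasiCompact G.hom] [ConnectedSpace ↥G.left]
    [Smooth Q.hom] [QuasiCompact Q.hom] [ConnectedSpace ↥Q.left]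
    (i : K ⟶ G) [IsMonHom i] [IsClosedImmersion i.left]
    (π : G ⟶ Q) [IsMonHom π] [Flat π.left] [Surjective π.left] (hker : AlgGrp.IsKernel i π)
    (hcls : ∀ t, ∃ N : ℕ, 0 < N ∧ ∀ ν (c : HH K.left (EtCoh.const K.left (ZMod (ℓ ^ ν))) t),
      ∃ z : HH G.left (EtCoh.const G.left (ZMod (ℓ ^ ν))) t, HC (ZMod (ℓ ^ ν)) i.left t z = N • c) (r : ℕ) :
    EtAdic.betti G.left ℓ r =
      ∑ s ∈ Finset.range (r + 1), EtAdic.betti K.left ℓ s * EtAdic.betti Q.left ℓ (r - s) := by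
  have w : i.left ≫ π.left = K.hom ≫ η[Q].left := by
    have h := hker.w
    have h2 := congrArg (fun a => a.left) h
    dsimp at h2
    rw [h2]
  obtain ⟨hbc, hconst⟩ := K522.LHGroup.inputs ℓ hℓ K G Q i π hker η[Q].left rfl w
  refine main π.left η[Q].left i.left K.hom w ℓ hbc (fun ν t => ?_) hcls
    (fun j => finite_Hmod ℓ hℓ G.hom j 1) (fun j => finite_Hmod ℓ hℓ Q.hom j 1)
    (fun j => finite_Hmod ℓ hℓ K.hom j 1) r
  obtain ⟨M, i1, i2, -, h⟩ := hconst ν t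
  exact ⟨M, i1, i2, h⟩

end K112.LH
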