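import Groth.Agent.EtAdic.K112.LHFib2

/-!
# The cohomology of the fibre as a group
-/

set_option autoImplicit false
set_option linter.unusedSectionVars false
universe u

open CategoryTheory CategoryTheory.Limits AlgebraicGeometry Opposite DerivedCategory
open scoped Groth.Agent.Etcore.EtInst
open Groth.Agent.Etcore.EtInst Groth.Agent.Etcore.HpullCalc Groth.Agent.Etcore.HC

attribute [local instance] HasDerivedCategory.standard

namespace K112.LH

open Groth.Agent.Sga4h.LPull Groth.Agent.Sga7.H754.HDer Groth.Agent.Lefpen.H710.BettiSys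
  Groth.Agent.Sga4h.RPair Groth.Agent.Etrest.DEtPush Groth.Agent.Etrest.DEtMate

/-- the shift functor as an additive equivalence on morphisms -/
noncomputable def shiftEquiv {A : Type*} [Category* A] [Preadditive A] [HasShift A ℤ]
    [∀ n : ℤ, (shiftFunctor A n).Additive] (n : ℤ) (X Y : A) : (X ⟶ Y) ≃+ (X⟦n⟧ ⟶ Y⟦n⟧) :=
  AddEquiv.ofBijective (shiftFunctor A n).mapAddHom
    ⟨fun _ _ h => (shiftFunctor A n).map_injective h, fun y => (shiftFunctor A n).map_surjective y⟩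

variable {X Y F T : Scheme.{u}}

/-- the cohomology of the fibre as a group of morphisms -/
theorem exists_grp₁ (f : X ⟶ Y) (g : F ⟶ X) (M : Type) [AddCommGroup M] (t : ℕ) :
    Nonempty (HH F (EtCoh.const F M) t ≃+
      ((L g).obj ((L f).obj ((singleFunctor _ (t : ℤ)).obj (EtCoh.const Y ℤ))) ⟶
        (L g).obj (S0 (EtCoh.const X M)))) := by
  let a1 : HH F ((EtCoh.pull g).obj (EtCoh.const X M)) t ≃+ HH F (EtCoh.const F M) t :=
    AddEquiv.ofBijective (HHmap (EtCore.pullConst g M).hom t)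
      (HHmap_bijective (EtCore.pullConst g M).hom t)
  let a2 := clsEquiv g (EtCoh.const X M) t
  let a3 := shiftEquiv (-(t : ℤ)) ((L g).obj (Z0 X)) ((L g).obj ((S0 (EtCoh.const X M))⟦(t : ℤ)⟧))
  let i1 : ((L g).obj (Z0 X))⟦-(t : ℤ)⟧ ≅
      (L g).obj ((L f).obj ((singleFunctor _ (t : ℤ)).obj (EtCoh.const Y ℤ))) :=
    (((L g).commShiftIso (-(t : ℤ))).app (Z0 X)).symm ≪≫ (L g).mapIso (wIso f (t : ℤ)).symm
  let i2 : ((L g).obj ((S0 (EtCoh.const X M))⟦(t : ℤ)⟧))⟦-(t : ℤ)⟧ ≅ (L g).obj (S0 (EtCoh.const X M)) :=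
    (((L g).commShiftIso (-(t : ℤ))).app _).symm ≪≫
      (L g).mapIso ((shiftFunctorCompIsoId _ (t : ℤ) (-t) (by lia)).app (S0 (EtCoh.const X M)))
  exact ⟨((a1.symm.trans a2.symm).trans a3).trans (homIso i1 i2)⟩

variable {f : X ⟶ Y} {y : T ⟶ Y} {g : F ⟶ X} {p : F ⟶ T} (w : g ≫ f = p ≫ y)

/-- base change -/
theorem exists_grp₂ {K : D X} (hbc : Groth.Agent.Sga4h.GSq.BC w K) (W : D Y) :
    Nonempty (((L y).obj W ⟶ (L y).obj ((pushD f).obj K)) ≃+ ((L g).obj ((L f).obj W) ⟶ (L g).obj K)) := by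
  have hu := Groth.Agent.Sga4h.GSq.isUniv_pushD f K
  have hbc' : (Groth.Agent.Sga4h.RPair.sq (cmp w)).BC K := hbc
  have hu' := hbc'.isUniv hu
  have e1 := univEquiv hu' (((EtCoh.pull y).mapDerivedCategory).obj W)
  have e2 : (((EtCoh.pull p).mapDerivedCategory).obj (((EtCoh.pull y).mapDerivedCategory).obj W) ⟶
      ((EtCoh.pull g).mapDerivedCategory).obj K) ≃+
        (((EtCoh.pull g).mapDerivedCategory).obj (((EtCoh.pull f).mapDerivedCategory).obj W) ⟶
          ((EtCoh.pull g).mapDerivedCategory).obj K) :=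
    homIso ((Groth.Agent.Sga4h.RPair.sq (cmp w)).σ.app W) (Iso.refl _)
  exact ⟨e1.trans e2⟩

section point

variable {k : Type u} [Field k] [IsSepClosed k] {y : Spec (CommRingCat.of k) ⟶ Y}

theorem exists_grp₃ (P : D Y) (t : ℤ) (M : Type) [AddCommGroup M]
    (θ : EtCoh.const Y M ≅ (homologyFunctor _ t).obj P) :
    Nonempty (((L y).obj ((singleFunctor _ t).obj (EtCoh.const Y ℤ)) ⟶ (L y).obj P) ≃+ M) := by
  let W : D Y := (singleFunctor _ t).obj (EtCoh.const Y ℤ)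
  let h : L y ⋙ homologyFunctor _ t ≅ homologyFunctor _ t ⋙ EtCoh.pull y :=
    Groth.Agent.Dcoh.MapDer.homologyMapDer (EtCoh.pull y) t
  let c := singleFunctorCompHomologyFunctorIso (EtCoh.Ab Y) t
  let b1 : ((L y).obj W ⟶ (L y).obj P) ≃+
      ((homologyFunctor _ t).obj ((L y).obj W) ⟶ (homologyFunctor _ t).obj ((L y).obj P)) :=
    AddEquiv.ofBijective (homologyFunctor _ t).mapAddHom (bij_point y t ((L y).obj P))
  let i1 : (homologyFunctor _ t).obj ((L y).obj W) ≅ EtCoh.const (Spec (CommRingCat.of k)) ℤ :=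
    h.app W ≪≫ (EtCoh.pull y).mapIso (c.app (EtCoh.const Y ℤ)) ≪≫ EtCore.pullConst y ℤ
  let i2 : (homologyFunctor _ t).obj ((L y).obj P) ≅ EtCoh.const (Spec (CommRingCat.of k)) M :=
    h.app P ≪≫ (EtCoh.pull y).mapIso θ.symm ≪≫ EtCore.pullConst y M
  obtain ⟨b3⟩ := exists_addEquiv_hom (k := k) M
  exact ⟨(b1.trans (homIso i1 i2)).trans b3⟩

/-- **The fibre of the higher direct image.** -/
theorem exists_grp {p : F ⟶ Spec (CommRingCat.of k)} (w : g ≫ f = p ≫ y) (Λ : Type) [AddCommGroup Λ]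
    (hbc : Groth.Agent.Sga4h.GSq.BC w (S0 (EtCoh.const X Λ))) (t : ℕ) (M : Type) [AddCommGroup M]
    (θ : EtCoh.const Y M ≅ (homologyFunctor _ (t : ℤ)).obj ((pushD f).obj (S0 (EtCoh.const X Λ)))) :
    Nonempty (M ≃+ HH F (EtCoh.const F Λ) t) := by
  obtain ⟨e1⟩ := exists_grp₁ (Y := Y) f g Λ t
  obtain ⟨e2⟩ := exists_grp₂ w hbc ((singleFunctor _ (t : ℤ)).obj (EtCoh.const Y ℤ))
  obtain ⟨e3⟩ := exists_grp₃ (y := y) ((pushD f).obj (S0 (EtCoh.const X Λ))) (t : ℤ) M θ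
  exact ⟨e3.symm.trans (e2.trans e1.symm)⟩

end point

end K112.LH
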