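import Groth.Agent.EtAdic.K112.LHGrp
import Groth.Agent.EtAdic.K112.LHConst

/-!
# Lifting maps from `ℤ` to `ℤ/n`, and from generators to free `ℤ/n`-modules
-/

set_option autoImplicit false
set_option linter.unusedSectionVars false
universe u

open CategoryTheory CategoryTheory.Limits AlgebraicGeometry Opposite DerivedCategory
open CategoryTheory.Pretriangulated
open scoped Groth.Agent.Etcore.EtInst
open Groth.Agent.Etcore.EtInst Groth.Agent.Etcore.HpullCalc Groth.Agent.Etcore.HC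

attribute [local instance] HasDerivedCategory.standard

namespace K112.LH

open Groth.Agent.Sga4h.LPull Groth.Agent.Sga7.H754.HDer Groth.Agent.Lefpen.H710.BettiSys

section abs

variable {A : Type*} [Category* A] [Preadditive A] [HasShift A ℤ]
    [∀ n : ℤ, (shiftFunctor A n).Additive]

/-- every morphism `X ⟶ P` extends along `a : X ⟶ Y`. -/
def Ext1 {X Y : A} (a : X ⟶ Y) (P : A) : Prop := ∀ z : X ⟶ P, ∃ z' : Y ⟶ P, a ≫ z' = z

theorem Ext1.unshift {X Y P : A} {a : X ⟶ Y} (t : ℤ) (h : Ext1 a (P⟦t⟧)) :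
    Ext1 (a⟦-t⟧') P := fun z => by
  let i := shiftFunctorCompIsoId A (-t) t (by lia)
  obtain ⟨z', hz'⟩ := h (i.inv.app X ≫ z⟦t⟧')
  obtain ⟨x, hx⟩ := (shiftFunctor A t).map_surjective (i.hom.app Y ≫ z')
  refine ⟨x, (shiftFunctor A t).map_injective ?_⟩
  rw [Functor.map_comp, hx]
  have h1 : (a⟦-t⟧')⟦t⟧' ≫ i.hom.app Y = i.hom.app X ≫ a := i.hom.naturality a
  rw [reassoc_of% h1, hz', Iso.hom_inv_id_app_assoc]

end abs

variable {Y : Scheme.{u}}

theorem hmap_map {A B : EtCoh.Ab Y} {N : D Y} (t : ℤ) (a : A ⟶ B) (u : (singleFunctor _ t).obj B ⟶ N) :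
    hmap t ((singleFunctor _ t).map a ≫ u) = a ≫ hmap t u := by
  rw [hmap, hmap, Functor.map_comp]
  have h := (singleFunctorCompHomologyFunctorIso (EtCoh.Ab Y) t).inv.naturality a
  exact (Category.assoc _ _ _).symm.trans ((congrArg (fun x => x ≫ _) h.symm).trans (Category.assoc _ _ _))

theorem hmap_sum {ι : Type*} (s : Finset ι) {A : EtCoh.Ab Y} {N : D Y} (t : ℤ)
    (u : ι → ((singleFunctor _ t).obj A ⟶ N)) : hmap t (∑ i ∈ s, u i) = ∑ i ∈ s, hmap t (u i) := by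
  simp only [hmap]
  rw [Functor.map_sum, Preadditive.comp_sum]

theorem cm_add {A B : Type} [AddCommGroup A] [AddCommGroup B] (φ ψ : A →+ B) :
    cm Y (φ + ψ) = cm Y φ + cm Y ψ := by
  have := additive_constantSheaf Y
  have h : ul.{u} (φ + ψ) = ul.{u} φ + ul.{u} ψ := rfl
  unfold cm
  rw [h, Functor.map_add]

theorem cm_zero {A B : Type} [AddCommGroup A] [AddCommGroup B] : cm Y (0 : A →+ B) = 0 := by
  have h := cm_add (Y := Y) (0 : A →+ B) 0
  rw [add_zero] at h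
  exact (left_eq_add.1 h)

theorem cm_sum {ι : Type*} (s : Finset ι) {A B : Type} [AddCommGroup A] [AddCommGroup B]
    (φ : ι → (A →+ B)) : cm Y (∑ i ∈ s, φ i) = ∑ i ∈ s, cm Y (φ i) := by
  classical
  induction s using Finset.induction_on with
  | empty => simp [cm_zero]
  | insert i s hi ih => rw [Finset.sum_insert hi, Finset.sum_insert hi, cm_add, ih]

theorem cm_nsmul {A B : Type} [AddCommGroup A] [AddCommGroup B] (n : ℕ) (φ : A →+ B) :
    cm Y (n • φ) = n • cm Y φ := by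
  induction n with
  | zero => rw [zero_smul, zero_smul, cm_zero]
  | succ n ih => rw [succ_nsmul, succ_nsmul, cm_add, ih]

/-- reduction modulo `n` -/
def redz (n : ℕ) : ℤ →+ ZMod n := Int.castAddHom (ZMod n)

theorem ses_int (n : ℕ) (hn : 0 < n) :
    ∃ w : cm Y (n • AddMonoidHom.id ℤ) ≫ cm Y (redz n) = 0,
      (ShortComplex.mk (cm Y (n • AddMonoidHom.id ℤ)) (cm Y (redz n)) w).ShortExact := by
  refine exists_shortExact Y _ _ ?_ ?_ ZMod.intCast_surjective
  · intro a b hab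
    have h : n • a = n • b := hab
    rw [← natCast_zsmul, ← natCast_zsmul, smul_eq_mul, smul_eq_mul] at h
    exact (mul_right_inj' (by exact_mod_cast hn.ne')).1 h
  · intro x
    have h : redz n x = 0 ↔ (n : ℤ) ∣ x := ZMod.intCast_zmod_eq_zero_iff_dvd x n
    rw [h]
    constructor
    · rintro ⟨c, rfl⟩
      refine ⟨c, ?_⟩
      change n • c = _
      rw [← natCast_zsmul, smul_eq_mul]
    · rintro ⟨c, rfl⟩
      refine ⟨c, ?_⟩
      change n • c = _
      rw [← natCast_zsmul, smul_eq_mul]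

theorem ext1_zero (n : ℕ) (hn : 0 < n) (Q : D Y) (hQ : n • 𝟙 Q = 0) :
    Ext1 (X := S0 (EtCoh.const Y ℤ)) (Y := S0 (EtCoh.const Y (ZMod n)))
      ((singleFunctor _ 0).map (cm Y (redz n))) Q := fun z => by
  obtain ⟨w, hS⟩ := ses_int (Y := Y) n hn
  have h1 : (singleFunctor _ 0).map (cm Y (n • AddMonoidHom.id ℤ)) ≫ z = 0 := by
    have e : cm Y (AddMonoidHom.id ℤ) = 𝟙 _ := by
      have := cm_zsmul_id Y (A := ℤ) 1
      rwa [one_smul, one_smul] at this
    rw [cm_nsmul, e, Functor.map_nsmul, CategoryTheory.Functor.map_id, Preadditive.nsmul_comp,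
      Category.id_comp]
    have h2 : z ≫ (n • 𝟙 Q) = n • z := by rw [Preadditive.comp_nsmul, Category.comp_id]
    rw [← h2, hQ, comp_zero]
  obtain ⟨z', hz'⟩ := Triangle.yoneda_exact₂ _ hS.singleTriangle_distinguished z h1
  exact ⟨z', hz'.symm⟩

theorem ext1_single (n : ℕ) (hn : 0 < n) (P : D Y) (hP : n • 𝟙 P = 0) (t : ℤ) :
    Ext1 ((singleFunctor _ t).map (cm Y (redz n))) P := fun z => by
  have hP' : n • 𝟙 (P⟦t⟧) = 0 := by
    rw [← CategoryTheory.Functor.map_id, ← Functor.map_nsmul, hP, Functor.map_zero]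
  have h1 := (ext1_zero n hn (P⟦t⟧) hP').unshift (t := t)
  obtain ⟨z', hz'⟩ := h1 ((sIso t).inv.app (EtCoh.const Y ℤ) ≫ z)
  refine ⟨(sIso t).hom.app (EtCoh.const Y (ZMod n)) ≫ z', ?_⟩
  have h2 := (sIso t).hom.naturality (cm Y (redz n))
  have h3 : (singleFunctor _ t).map (cm Y (redz n)) ≫ (sIso t).hom.app (EtCoh.const Y (ZMod n)) =
      (sIso t).hom.app (EtCoh.const Y ℤ) ≫
        ((singleFunctor _ 0).map (cm Y (redz n)))⟦-t⟧' := h2
  rw [reassoc_of% h3, hz', Iso.hom_inv_id_app_assoc]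

/-- **Lifting.** -/
theorem exists_lift (n : ℕ) (hn : 0 < n) (P : D Y) (hP : n • 𝟙 P = 0) (t : ℤ) (N β : ℕ) (M : Type)
    [AddCommGroup M] (θ : EtCoh.const Y M ⟶ (homologyFunctor _ t).obj P)
    (hcls : ∀ φ : EtCoh.const Y ℤ ⟶ EtCoh.const Y M,
      ∃ u : (singleFunctor _ t).obj (EtCoh.const Y ℤ) ⟶ P, hmap t u = N • (φ ≫ θ))
    (φ : (Fin β → ZMod n) →+ M) (hφ : ∀ x, ∃ m, φ x = N • m) :
    ∃ u : (singleFunctor _ t).obj (EtCoh.const Y (Fin β → ZMod n)) ⟶ P, hmap t u = cm Y φ ≫ θ := by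
  classical
  have h1 : ∀ j : Fin β, ∃ u : (singleFunctor _ t).obj (EtCoh.const Y (ZMod n)) ⟶ P,
      hmap t u = cm Y (φ.comp (AddMonoidHom.single (fun _ => ZMod n) j)) ≫ θ := by
    intro j
    obtain ⟨m, hm⟩ := hφ (Pi.single j 1)
    obtain ⟨u₀, hu₀⟩ := hcls (cm Y (zmultiplesHom M m))
    obtain ⟨u, hu⟩ := ext1_single n hn P hP t u₀
    refine ⟨u, ?_⟩
    obtain ⟨w, hS⟩ := ses_int (Y := Y) n hn
    have hepi : Epi (cm Y (redz n)) := hS.epi_g
    rw [← cancel_epi (cm Y (redz n)), ← hmap_map, hu, hu₀, ← Category.assoc, cm_comp,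
      ← Preadditive.nsmul_comp, ← cm_nsmul]
    congr 2
    ext
    change N • ((1 : ℤ) • m) = φ (Pi.single j ((1 : ℤ) : ZMod n))
    rw [one_smul, Int.cast_one, hm]
  choose u hu using h1
  refine ⟨∑ j, (singleFunctor _ t).map (cm Y (Pi.evalAddMonoidHom (fun _ : Fin β => ZMod n) j)) ≫ u j, ?_⟩
  rw [hmap_sum]
  have h2 : φ = ∑ j, (φ.comp (AddMonoidHom.single (fun _ => ZMod n) j)).comp
      (Pi.evalAddMonoidHom (fun _ : Fin β => ZMod n) j) := by
    refine AddMonoidHom.ext fun x => ?_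
    rw [AddMonoidHom.finsetSum_apply]
    conv_lhs => rw [← Finset.univ_sum_single x]
    rw [map_sum]
    rfl
  conv_rhs => rw [h2, cm_sum, Preadditive.sum_comp]
  refine Finset.sum_congr rfl fun j _ => ?_
  rw [hmap_map, hu, ← Category.assoc, cm_comp]

end K112.LH
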