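import Groth.Agent.EtAdic.K112.LHLift
import Groth.Agent.EtAdic.K833.LHAux

/-!
# Leray–Hirsch for `ℓ`-adic Betti numbers
-/

set_option autoImplicit false
set_option linter.unusedSectionVars false
universe u

open CategoryTheory CategoryTheory.Limits AlgebraicGeometry Opposite DerivedCategory
open CategoryTheory.Pretriangulated
open scoped Groth.Agent.Etcore.EtInst
open Groth.Agent.Etcore.EtInst Groth.Agent.Etcore.HpullCalc Groth.Agent.Etcore.HC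

attribute [local instance] HasDerivedCategory.standard

namespace K112.LH

open Groth.Agent.Sga4h.LPull Groth.Agent.Sga7.H754.HDer Groth.Agent.Lefpen.H710.BettiSys
  Groth.Agent.Sga4h.RPair Groth.Agent.Etrest.DEtPush Groth.Agent.Etrest.DEtMate
open Groth.Agent.Lefpen.H710

section trunc

variable {Y : Scheme.{u}}

theorem exists_trunc' (N : D Y) (n : ℤ) [N.IsGE 0] :
    ∃ (N' M : D Y) (f : N' ⟶ N) (g : N ⟶ M) (h : M ⟶ N'⟦(1 : ℤ)⟧), Triangle.mk f g h ∈ distTriang _ ∧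
      N'.IsGE 0 ∧ N'.IsLE (n - 1) ∧ M.IsGE n ∧ ∀ i, i ≤ n - 1 → IsIso ((homologyFunctor _ i).map f) := by
  obtain ⟨T, hT, rfl, h1, h3, hi1, hi3⟩ := Groth.Agent.LoccohB.Devissage.exists_trunc N (n - 1) n (by lia)
  have hGE : T.obj₁.IsGE 0 := by
    rw [isGE_iff]
    intro i hi
    by_cases hi' : i ≤ n - 1
    · have := hi1 i hi'
      exact (T.obj₂.isZero_of_isGE 0 i hi).of_iso (asIso ((homologyFunctor _ i).map T.mor₁))
    · exact T.obj₁.isZero_of_isLE (n - 1) i (by lia)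
  exact ⟨T.obj₁, T.obj₃, T.mor₁, T.mor₂, T.mor₃, hT, hGE, h1, h3, hi1⟩

/-- Orders of hypercohomology, without boundedness above. -/
theorem main_ge (n : ℕ) (P : ℕ → D Y) (hGE : ∀ ν, (P ν).IsGE 0) (A : ℕ → ℕ → EtCoh.Ab Y)
    (hu : ∀ t : ℕ, t < n → ∃ u : ∀ ν, (singleFunctor _ (t : ℤ)).obj (A t ν) ⟶ P ν,
      BddM (FH Y) (fun ν => hmap t (u ν)))
    (hA : ∀ t : ℕ, t < n → FinC (FH Y) (A t)) (j : ℤ) (hj : j < n) :
    Asy (fun ν => cd (FH Y) j (P ν)) (fun ν => ∏ t ∈ Finset.range n, cd (FH Y) (j - t) (S0 (A t ν))) := by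
  choose N M f g h hT h0 h1 h2 hf using fun ν => @exists_trunc' Y (P ν) (n : ℤ) (hGE ν)
  obtain ⟨-, key⟩ := main_trunc (F := FH Y) n N h0 h1 A (fun t ht => by
    obtain ⟨u, hu⟩ := hu t ht
    have hz : ∀ ν, u ν ≫ g ν = 0 := fun ν => TStructure.t.zero _ (t : ℤ) (n : ℤ) (by exact_mod_cast ht)
    choose u' hu' using fun ν => Triangle.coyoneda_exact₂ _ (hT ν) (u ν) (hz ν)
    refine ⟨u', BddM.of_comp_iso (fun ν => (homologyFunctor _ (t : ℤ)).map (f ν))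
      (fun ν => hf ν t (by lia)) (hu.congr fun ν => ?_)⟩
    rw [hu' ν]
    exact hmap_comp _ _ _) hA
  refine Asy.trans (Asy.of_eq fun ν => ?_) (key j)
  -- `H^j(N) = H^j(P)`
  have s1 : Subsingleton (Hs (FH Y) j (M ν)) := hs_subsingleton (M ν) n j hj
  have s2 : Subsingleton (Hs (FH Y) (j - 1) (M ν)) := hs_subsingleton (M ν) n (j - 1) (by lia)
  refine (Nat.card_congr (Equiv.ofBijective (((FH Y).shift j).map (f ν)).hom ⟨?_, ?_⟩)).symm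
  · rw [injective_iff_map_eq_zero]
    intro x hx
    obtain ⟨z, hz⟩ := (ex₁ (F := FH Y) _ (hT ν) (j - 1) j (by lia) x).1 hx
    have hz0 : z = 0 := @Subsingleton.elim _ s2 _ _
    rw [← hz, hz0, map_zero]
    rfl
  · intro x
    exact (ex₂ (F := FH Y) _ (hT ν) j x).1 (@Subsingleton.elim _ s1 _ _)

end trunc

section main

variable {k : Type u} [Field k] [IsSepClosed k] {X Y F : Scheme.{u}} [ConnectedSpace Y]
    (f : X ⟶ Y) (y : Spec (CommRingCat.of k) ⟶ Y) (g : F ⟶ X) (p : F ⟶ Spec (CommRingCat.of k))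
    (w : g ≫ f = p ≫ y) (ℓ : ℕ) [hℓ : Fact ℓ.Prime]

theorem nsmul_id_pushD (n : ℕ) (Λ : Type) [AddCommGroup Λ] (h : ∀ x : Λ, n • x = 0) :
    n • 𝟙 ((pushD f).obj (S0 (EtCoh.const X Λ))) = 0 := by
  have h1 : n • 𝟙 (EtCoh.const X Λ) = 0 := by
    have e := cm_zsmul_id X (A := Λ) (n : ℤ)
    rw [natCast_zsmul, natCast_zsmul] at e
    have e0 : n • AddMonoidHom.id Λ = 0 := AddMonoidHom.ext fun x => h x
    rw [← e, e0, cm_zero]
  rw [← CategoryTheory.Functor.map_id, ← CategoryTheory.Functor.map_id, ← Functor.map_nsmul,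
    ← Functor.map_nsmul, h1, Functor.map_zero, Functor.map_zero]

theorem finC_const (hY : ∀ i, Finite (EtAdic.Hmod Y ℓ i 1)) (K : ℕ → Type) [∀ ν, AddCommGroup (K ν)]
    [∀ ν, Finite (K ν)] (h1 : ∀ ν, ∃ e, Nat.card (K ν) = ℓ ^ e) :
    FinC (FH Y) (fun ν => EtCoh.const Y (K ν)) := fun n ν => by
  obtain ⟨e, he⟩ := h1 ν
  exact (const_bound hY e (K ν) he n).1

include hℓ in
theorem neZero_pow (ν : ℕ) : NeZero (ℓ ^ ν) := ⟨(Nat.pow_pos hℓ.out.pos).ne'⟩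

theorem card_free (β ν : ℕ) : Nat.card (Fin β → ZMod (ℓ ^ ν)) = ℓ ^ (ν * β) := by
  rw [Nat.card_fun, Nat.card_zmod, Nat.card_eq_fintype_card (α := Fin _), Fintype.card_fin, ← pow_mul]

include w in
/-- the data in degree `t` -/
theorem exists_data (hbc : ∀ ν, Groth.Agent.Sga4h.GSq.BC w (S0 (EtCoh.const X (ZMod (ℓ ^ ν))))) (t : ℕ)
    (hconst : ∀ ν, ∃ (M : Type) (_ : AddCommGroup M) (_ : Finite M),
      Nonempty (EtCoh.const Y M ≅ (EtCoh.Rpush f t).obj (EtCoh.const X (ZMod (ℓ ^ ν)))))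
    (hcls : ∃ N : ℕ, 0 < N ∧ ∀ ν (c : HH F (EtCoh.const F (ZMod (ℓ ^ ν))) t),
      ∃ z : HH X (EtCoh.const X (ZMod (ℓ ^ ν))) t, HC (ZMod (ℓ ^ ν)) g t z = N • c)
    (hY : ∀ i, Finite (EtAdic.Hmod Y ℓ i 1)) (hF : ∀ i, Finite (EtAdic.Hmod F ℓ i 1)) :
    ∃ u : ∀ ν, (singleFunctor _ (t : ℤ)).obj (EtCoh.const Y (Fin (EtAdic.betti F ℓ t) → ZMod (ℓ ^ ν))) ⟶
      (pushD f).obj (S0 (EtCoh.const X (ZMod (ℓ ^ ν)))), BddM (FH Y) (fun ν => hmap t (u ν)) := by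
  obtain ⟨N, hN, hcls⟩ := hcls
  obtain ⟨C, hC⟩ := exists_phi F ℓ hF t N hN
  choose M i1 i2 θ₀ using hconst
  let θ : ∀ ν, EtCoh.const Y (M ν) ≅
      (homologyFunctor _ (t : ℤ)).obj ((pushD f).obj (S0 (EtCoh.const X (ZMod (ℓ ^ ν))))) := fun ν =>
    (θ₀ ν).some ≪≫ ((Groth.Agent.Etrest.RDer3.HTRsingle (EtCoh.push f) t).app _).symm
  have he : ∀ ν, Nonempty (M ν ≃+ EtAdic.Hmod F ℓ t ν) := fun ν =>
    exists_grp w (ZMod (ℓ ^ ν)) (hbc ν) t (M ν) (θ ν)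
  choose φ hφ1 hφ2 hφ3 using fun ν => hC ν (M ν) (he ν).some
  have hne := neZero_pow ℓ
  have hcl : ∀ ν, ∃ u : (singleFunctor _ (t : ℤ)).obj
      (EtCoh.const Y (Fin (EtAdic.betti F ℓ t) → ZMod (ℓ ^ ν))) ⟶
        (pushD f).obj (S0 (EtCoh.const X (ZMod (ℓ ^ ν)))), hmap t u = cm Y (φ ν) ≫ (θ ν).hom := fun ν => by
    refine exists_lift (ℓ ^ ν) (Nat.pow_pos hℓ.out.pos) _ (nsmul_id_pushD f _ _ fun x => ?_) (t : ℤ) N
      (EtAdic.betti F ℓ t) (M ν) (θ ν).hom (fun ψ => ?_) (φ ν) (hφ1 ν)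
    · rw [nsmul_eq_mul, ZMod.natCast_self, zero_mul]
    · exact exists_class y _ t N (nSurj_of_BC w (hbc ν) t N (nSurj_of_cls g (ZMod (ℓ ^ ν)) t N (hcls ν))) (M ν)
        (θ ν) ψ
  choose u hu using hcl
  refine ⟨u, BddM.congr (BddM.comp_iso (bddM_const hY (C := C) _ M φ (fun ν => ⟨_, card_free ℓ _ ν⟩)
    (fun ν => ?_) hφ2 hφ3) (fun ν => (θ ν).hom) fun ν => inferInstance) fun ν => (hu ν).symm⟩
  obtain ⟨C', hC'⟩ := Growth.card_bounded F ℓ hF t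
  obtain ⟨e', -, h⟩ := hC' ν
  exact ⟨_, (Nat.card_congr (he ν).some.toEquiv).trans h⟩

include w in
/-- **Leray–Hirsch** for `ℓ`-adic Betti numbers. -/
theorem main (hbc : ∀ ν, Groth.Agent.Sga4h.GSq.BC w (S0 (EtCoh.const X (ZMod (ℓ ^ ν)))))
    (hconst : ∀ ν t, ∃ (M : Type) (_ : AddCommGroup M) (_ : Finite M),
      Nonempty (EtCoh.const Y M ≅ (EtCoh.Rpush f t).obj (EtCoh.const X (ZMod (ℓ ^ ν)))))
    (hcls : ∀ t, ∃ N : ℕ, 0 < N ∧ ∀ ν (c : HH F (EtCoh.const F (ZMod (ℓ ^ ν))) t),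
      ∃ z : HH X (EtCoh.const X (ZMod (ℓ ^ ν))) t, HC (ZMod (ℓ ^ ν)) g t z = N • c)
    (hX : ∀ i, Finite (EtAdic.Hmod X ℓ i 1)) (hY : ∀ i, Finite (EtAdic.Hmod Y ℓ i 1))
    (hF : ∀ i, Finite (EtAdic.Hmod F ℓ i 1)) (r : ℕ) :
    EtAdic.betti X ℓ r = ∑ s ∈ Finset.range (r + 1), EtAdic.betti F ℓ s * EtAdic.betti Y ℓ (r - s) := by
  have hne := neZero_pow ℓ
  have key := main_ge (r + 1) (fun ν => (pushD f).obj (S0 (EtCoh.const X (ZMod (ℓ ^ ν)))))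
    (fun ν => Groth.Agent.Etrest.RDer3.TR_isGE (EtCoh.push f) _ 0)
    (fun t ν => EtCoh.const Y (Fin (EtAdic.betti F ℓ t) → ZMod (ℓ ^ ν)))
    (fun t _ => exists_data f y g p w ℓ hbc t (fun ν => hconst ν t) (hcls t) hY hF)
    (fun t _ => finC_const ℓ hY _ fun ν => ⟨_, card_free ℓ _ ν⟩) r (by push_cast; lia)
  refine Asy.unique hℓ.out.one_lt (Asy.trans (Asy.symm ?_) (key.trans ?_))
  · -- `#H^r(X, Z/ℓ^ν)`
    refine Asy.trans (Asy.of_eq fun ν => K833.LHAux.card_push f _ r) ?_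
    obtain ⟨C, hC⟩ := Growth.card_bounded X ℓ hX r
    exact Asy.of_pow hℓ.out.pos hC
  · have e : ∀ ν, ℓ ^ ((∑ s ∈ Finset.range (r + 1), EtAdic.betti F ℓ s * EtAdic.betti Y ℓ (r - s)) * ν) =
        ∏ s ∈ Finset.range (r + 1), (ℓ ^ (EtAdic.betti Y ℓ (r - s) * ν)) ^ EtAdic.betti F ℓ s := fun ν => by
      rw [Finset.sum_mul, ← Finset.prod_pow_eq_pow_sum]
      refine Finset.prod_congr rfl fun s _ => ?_
      rw [← pow_mul]
      congr 1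
      ring
    refine Asy.trans ?_ (Asy.of_eq e).symm
    refine Asy.prod _ fun s hs => ?_
    rw [Finset.mem_range] at hs
    have e1 : ((r : ℤ) - (s : ℤ)) = ((r - s : ℕ) : ℤ) := by omega
    obtain ⟨C, hC⟩ := Growth.card_bounded Y ℓ hY (r - s)
    refine Asy.trans (Asy.of_eq fun ν => ?_) ((Asy.of_pow hℓ.out.pos hC).pow (EtAdic.betti F ℓ s))
    rw [K833.LHAux.cd_pi, e1, cd_ext]

end main

end K112.LH
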