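import Groth.Agent.EtAdic.K112.LHTrunc
import Mathlib.Algebra.Homology.DerivedCategory.Ext.EnoughProjectives

/-!
# Morphisms out of a projective object in the derived category
-/

set_option autoImplicit false
universe w' v u

open CategoryTheory CategoryTheory.Limits CategoryTheory.Pretriangulated DerivedCategory

namespace K112.LH

variable {C : Type u} [Category.{v} C] [Abelian C] [HasDerivedCategory.{w'} C]

theorem eq_zero_of_isLE {A : C} [Projective A] {t n : ℤ} (hn : n < t) {L : DerivedCategory C} [L.IsLE n]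
    (φ : (singleFunctor C t).obj A ⟶ L) : φ = 0 := by
  obtain ⟨K, hK, ⟨e⟩⟩ := L.exists_iso_Q_obj_of_isLE n
  have h := from_singleFunctor_obj_eq_zero_of_projective (P := A) (L := K) (i := t) (φ ≫ e.hom) n hn
  rw [← cancel_mono e.hom, zero_comp]
  exact h

/-- the case of an object `≥ t` -/
theorem bij_aux (A : C) (t : ℤ) (M : DerivedCategory C) [hM : M.IsGE t] :
    Function.Bijective (fun φ : (singleFunctor C t).obj A ⟶ M => (homologyFunctor C t).map φ) := by
  obtain ⟨T, hT, rfl, h1, h3, hi1, hi3⟩ := Groth.Agent.LoccohB.Devissage.exists_trunc M t (t + 1) rfl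
  have hGE : T.obj₁.IsGE t := by
    rw [isGE_iff]
    intro i hi
    have := hi1 i (by lia)
    exact (T.obj₂.isZero_of_isGE t i hi).of_iso (asIso ((homologyFunctor C i).map T.mor₁))
  obtain ⟨e⟩ := Groth.Agent.LoccohB.Devissage.nonempty_iso_single T.obj₁ t
  have hiso := hi1 t le_rfl
  constructor
  · intro φ φ' hφ
    rw [← sub_eq_zero]
    have hφ' : (homologyFunctor C t).map (φ - φ') = 0 := by
      rw [Functor.map_sub, sub_eq_zero]
      exact hφ
    generalize φ - φ' = ψ at hφ'
    have h5 : ψ ≫ T.mor₂ = 0 := TStructure.t.zero _ t (t + 1) (by lia)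
    obtain ⟨ψ', rfl⟩ := Triangle.coyoneda_exact₂ _ hT ψ h5
    rw [Functor.map_comp] at hφ'
    have h6 : (homologyFunctor C t).map ψ' = 0 := by
      rw [← cancel_mono ((homologyFunctor C t).map T.mor₁), hφ', zero_comp]
    obtain ⟨a, ha⟩ := (singleFunctor C t).map_surjective (ψ' ≫ e.hom)
    have h7 : (homologyFunctor C t).map ((singleFunctor C t).map a) = 0 := by
      rw [ha, Functor.map_comp, h6, zero_comp]
    have h8 : a = 0 := by
      have h9 := (singleFunctorCompHomologyFunctorIso C t).hom.naturality a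
      have h10 : (singleFunctor C t ⋙ homologyFunctor C t).map a = 0 := h7
      rw [h10, zero_comp] at h9
      rw [← cancel_epi ((singleFunctorCompHomologyFunctorIso C t).hom.app A), comp_zero]
      exact h9.symm
    have h11 : ψ' = 0 := by
      rw [← cancel_mono e.hom, ← ha, h8, Functor.map_zero, zero_comp]
    rw [h11, zero_comp]
  · intro b
    let c := singleFunctorCompHomologyFunctorIso C t
    obtain ⟨a, ha⟩ : ∃ a : A ⟶ (homologyFunctor C t).obj T.obj₁, a = c.inv.app A ≫ b ≫
      inv ((homologyFunctor C t).map T.mor₁) ≫ (homologyFunctor C t).map e.hom ≫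
        c.hom.app ((homologyFunctor C t).obj T.obj₁) := ⟨_, rfl⟩
    refine ⟨(singleFunctor C t).map a ≫ e.inv ≫ T.mor₁, ?_⟩
    have h9 : (homologyFunctor C t).map ((singleFunctor C t).map a) =
        c.hom.app A ≫ a ≫ c.inv.app _ := by
      have h10 := c.hom.naturality a
      have h11 : (homologyFunctor C t).map ((singleFunctor C t).map a) ≫ c.hom.app _ =
          c.hom.app A ≫ a := h10
      rw [← Category.assoc, ← h11, Category.assoc, Iso.hom_inv_id_app]
      exact (Category.comp_id _).symm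
    dsimp only
    rw [Functor.map_comp, Functor.map_comp, h9, ha]
    simp only [Category.assoc]
    rw [Iso.hom_inv_id_app_assoc, Iso.hom_inv_id_app_assoc]
    have h12 : (homologyFunctor C t).map e.hom ≫ (homologyFunctor C t).map e.inv = 𝟙 _ := by
      rw [← Functor.map_comp, e.hom_inv_id, CategoryTheory.Functor.map_id]
    rw [reassoc_of% h12, IsIso.inv_hom_id]
    exact Category.comp_id _

/-- morphisms `A[-t] ⟶ N` for `A` projective. -/
theorem bij_homology (A : C) [Projective A] (t : ℤ) (N : DerivedCategory C) :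
    Function.Bijective (fun φ : (singleFunctor C t).obj A ⟶ N => (homologyFunctor C t).map φ) := by
  obtain ⟨T, hT, rfl, h1, h3, hi1, hi3⟩ := Groth.Agent.LoccohB.Devissage.exists_trunc N (t - 1) t (by lia)
  have hiso := hi3 t le_rfl
  have hM := bij_aux A t T.obj₃
  constructor
  · intro φ φ' hφ
    have h4 : φ ≫ T.mor₂ = φ' ≫ T.mor₂ := hM.1 (by
      dsimp only at hφ ⊢
      rw [Functor.map_comp, Functor.map_comp, hφ])
    rw [← sub_eq_zero] at h4 ⊢
    rw [← Preadditive.sub_comp] at h4
    obtain ⟨ψ, hψ⟩ := Triangle.coyoneda_exact₂ _ hT _ h4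
    rw [hψ, eq_zero_of_isLE (n := t - 1) (by lia) ψ, zero_comp]
  · intro b
    obtain ⟨ψ, hψ⟩ := hM.2 (b ≫ (homologyFunctor C t).map T.mor₂)
    have h5 : (T.obj₁⟦(1 : ℤ)⟧).IsLE (t - 2) := TStructure.t.isLE_shift T.obj₁ (t - 1) 1 (t - 2) (by lia)
    obtain ⟨φ, rfl⟩ := Triangle.coyoneda_exact₃ _ hT ψ (eq_zero_of_isLE (n := t - 2) (by lia) _)
    refine ⟨φ, ?_⟩
    dsimp only at hψ ⊢
    rwa [Functor.map_comp, cancel_mono] at hψ

end K112.LH
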