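import Groth.Agent.EtAdic.K112.LHCnt
import Groth.Agent.LoccohB.Devissage

/-!
# Orders of the values of a homological functor, up to bounded factors

`Bdd F N`: the groups `H^n(N ν)` are finite, of order bounded independently of `ν`.  `main`: orders of the
hypercohomology of `N ν ∈ D^{[0, n)}` when objects `A t ν` are given together with morphisms
`A t ν [-t] ⟶ N ν` inducing maps `A t ν ⟶ H^t(N ν)` with bounded kernels and cokernels.
-/

set_option autoImplicit false
set_option linter.unusedSectionVars false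
universe w w' v u

open CategoryTheory CategoryTheory.Limits CategoryTheory.Pretriangulated

namespace K112.LH

section tri

variable {D : Type u} [Category.{v} D] [Preadditive D] [HasZeroObject D] [HasShift D ℤ]
  [∀ n : ℤ, (shiftFunctor D n).Additive] [Pretriangulated D] (F : D ⥤ AddCommGrpCat.{w})
  [F.IsHomological] [F.ShiftSequence ℤ]

/-- the groups `H^n(N)` -/
abbrev Hs (n : ℤ) (N : D) : Type w := ((F.shift n).obj N : AddCommGrpCat.{w})

/-- their orders -/
noncomputable def cd (n : ℤ) (N : D) : ℕ := Nat.card (Hs F n N)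

/-- finiteness -/
def FinF (N : ℕ → D) : Prop := ∀ (n : ℤ) (ν : ℕ), Finite (Hs F n (N ν))

/-- boundedness -/
def Bdd (N : ℕ → D) : Prop := ∀ n : ℤ, ∃ B : ℕ, ∀ ν, Finite (Hs F n (N ν)) ∧ cd F n (N ν) ≤ B

variable {F}

theorem Bdd.fin {N : ℕ → D} (h : Bdd F N) : FinF F N := fun n ν => ((h n).choose_spec ν).1

theorem cd_pos {n : ℤ} {N : D} (h : Finite (Hs F n N)) : 0 < cd F n N := Nat.card_pos

theorem cd_iso {n : ℤ} {N N' : D} (e : N ≅ N') : cd F n N = cd F n N' :=
  Nat.card_congr ((F.shift n).mapIso e).addCommGroupIsoToAddEquiv.toEquiv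

theorem fin_iso {n : ℤ} {N N' : D} (e : N ≅ N') (h : Finite (Hs F n N)) : Finite (Hs F n N') :=
  Finite.of_equiv _ ((F.shift n).mapIso e).addCommGroupIsoToAddEquiv.toEquiv

theorem FinF.of_iso {N N' : ℕ → D} (h : FinF F N) (e : ∀ ν, N ν ≅ N' ν) : FinF F N' :=
  fun n ν => fin_iso (e ν) (h n ν)

theorem Bdd.of_iso {N N' : ℕ → D} (h : Bdd F N) (e : ∀ ν, N ν ≅ N' ν) : Bdd F N' := fun n => by
  obtain ⟨B, hB⟩ := h n
  exact ⟨B, fun ν => ⟨fin_iso (e ν) (hB ν).1, by rw [← cd_iso (e ν)]; exact (hB ν).2⟩⟩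

section exact

variable (T : Triangle D) (hT : T ∈ distTriang D) (n m : ℤ) (h : n + 1 = m)

include hT

theorem ex₂ (x : Hs F n T.obj₂) : ((F.shift n).map T.mor₂).hom x = 0 ↔
    ∃ y, ((F.shift n).map T.mor₁).hom y = x := by
  constructor
  · exact (ShortComplex.ab_exact_iff _).1 (F.homologySequence_exact₂ T hT n) x
  · rintro ⟨y, rfl⟩
    exact ConcreteCategory.congr_hom (F.homologySequence_comp T hT n) y

theorem ex₃ (x : Hs F n T.obj₃) : (F.homologySequenceδ T n m h).hom x = 0 ↔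
    ∃ y, ((F.shift n).map T.mor₂).hom y = x := by
  constructor
  · exact (ShortComplex.ab_exact_iff _).1 (F.homologySequence_exact₃ T hT n m h) x
  · rintro ⟨y, rfl⟩
    exact ConcreteCategory.congr_hom (F.comp_homologySequenceδ T hT n m h) y

theorem ex₁ (x : Hs F m T.obj₁) : ((F.shift m).map T.mor₁).hom x = 0 ↔
    ∃ y, (F.homologySequenceδ T n m h).hom y = x := by
  constructor
  · exact (ShortComplex.ab_exact_iff _).1 (F.homologySequence_exact₁ T hT n m h) x
  · rintro ⟨y, rfl⟩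
    exact ConcreteCategory.congr_hom (F.homologySequenceδ_comp T hT n m h) y

end exact

section families

variable (T : ℕ → Triangle D) (hT : ∀ ν, T ν ∈ distTriang D)

include hT

theorem fin₂ (h₁ : FinF F fun ν => (T ν).obj₁) (h₃ : FinF F fun ν => (T ν).obj₃) :
    FinF F fun ν => (T ν).obj₂ := fun n ν => by
  have := h₁ n ν
  have := h₃ n ν
  exact (card_mid_le ((F.shift n).map (T ν).mor₁).hom ((F.shift n).map (T ν).mor₂).hom
    (fun b hb => (ex₂ _ (hT ν) n b).1 hb)).1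

theorem fin₃ (h₁ : FinF F fun ν => (T ν).obj₁) (h₂ : FinF F fun ν => (T ν).obj₂) :
    FinF F fun ν => (T ν).obj₃ := fun n ν => by
  have := h₂ n ν
  have := h₁ (n + 1) ν
  exact (card_mid_le ((F.shift n).map (T ν).mor₂).hom (F.homologySequenceδ (T ν) n (n + 1) rfl).hom
    (fun b hb => (ex₃ _ (hT ν) n _ rfl b).1 hb)).1

theorem fin₁ (h₂ : FinF F fun ν => (T ν).obj₂) (h₃ : FinF F fun ν => (T ν).obj₃) :
    FinF F fun ν => (T ν).obj₁ := fun n ν => by
  have := h₂ n ν
  have := h₃ (n - 1) ν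
  exact (card_mid_le (F.homologySequenceδ (T ν) (n - 1) n (by lia)).hom ((F.shift n).map (T ν).mor₁).hom
    (fun b hb => (ex₁ _ (hT ν) (n - 1) n (by lia) b).1 hb)).1

theorem bdd₂ (h₁ : Bdd F fun ν => (T ν).obj₁) (h₃ : Bdd F fun ν => (T ν).obj₃) :
    Bdd F fun ν => (T ν).obj₂ := fun n => by
  obtain ⟨B₁, h₁⟩ := h₁ n
  obtain ⟨B₃, h₃⟩ := h₃ n
  refine ⟨B₁ * B₃, fun ν => ?_⟩
  have := (h₁ ν).1
  have := (h₃ ν).1
  have h := card_mid_le ((F.shift n).map (T ν).mor₁).hom ((F.shift n).map (T ν).mor₂).hom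
    (fun b hb => (ex₂ _ (hT ν) n b).1 hb)
  exact ⟨h.1, h.2.trans (Nat.mul_le_mul (h₁ ν).2 (h₃ ν).2)⟩

/-- `T₁` bounded: `#H^n(T₂) ~ #H^n(T₃)`. -/
theorem asy₂₃ (h₁ : Bdd F fun ν => (T ν).obj₁) (h₂ : FinF F fun ν => (T ν).obj₂) (n : ℤ) :
    Asy (fun ν => cd F n (T ν).obj₂) (fun ν => cd F n (T ν).obj₃) := by
  have h₃ := fin₃ T hT h₁.fin h₂
  obtain ⟨B, hB⟩ := h₁ n
  obtain ⟨B', hB'⟩ := h₁ (n + 1)
  refine ⟨B + B' + 1, by omega, fun ν => ?_⟩
  have := h₂ n ν
  have := h₃ n ν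
  have := (hB ν).1
  have := (hB' ν).1
  have i2 := card_mid_le ((F.shift n).map (T ν).mor₁).hom ((F.shift n).map (T ν).mor₂).hom
    (fun b hb => (ex₂ _ (hT ν) n b).1 hb)
  have i3 := card_mid_le ((F.shift n).map (T ν).mor₂).hom (F.homologySequenceδ (T ν) n (n + 1) rfl).hom
    (fun b hb => (ex₃ _ (hT ν) n _ rfl b).1 hb)
  constructor
  · exact i2.2.trans (Nat.mul_le_mul_right _ ((hB ν).2.trans (by omega)))
  · refine i3.2.trans ?_
    rw [mul_comm]
    exact Nat.mul_le_mul_right _ ((hB' ν).2.trans (by omega))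

/-- `T₃` bounded: `#H^n(T₁) ~ #H^n(T₂)`. -/
theorem asy₁₂ (h₃ : Bdd F fun ν => (T ν).obj₃) (h₂ : FinF F fun ν => (T ν).obj₂) (n : ℤ) :
    Asy (fun ν => cd F n (T ν).obj₁) (fun ν => cd F n (T ν).obj₂) := by
  have h₁ := fin₁ T hT h₂ h₃.fin
  obtain ⟨B, hB⟩ := h₃ n
  obtain ⟨B', hB'⟩ := h₃ (n - 1)
  refine ⟨B + B' + 1, by omega, fun ν => ?_⟩
  have := h₂ n ν
  have := h₁ n ν
  have := (hB ν).1
  have := (hB' ν).1
  have i2 := card_mid_le ((F.shift n).map (T ν).mor₁).hom ((F.shift n).map (T ν).mor₂).hom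
    (fun b hb => (ex₂ _ (hT ν) n b).1 hb)
  have i1 := card_mid_le (F.homologySequenceδ (T ν) (n - 1) n (by lia)).hom ((F.shift n).map (T ν).mor₁).hom
    (fun b hb => (ex₁ _ (hT ν) (n - 1) n (by lia) b).1 hb)
  constructor
  · exact i1.2.trans (Nat.mul_le_mul_right _ ((hB' ν).2.trans (by omega)))
  · refine i2.2.trans ?_
    rw [mul_comm]
    exact Nat.mul_le_mul_right _ ((hB ν).2.trans (by omega))

/-- If the connecting maps have bounded images then `#H^n(T₂) ~ #H^n(T₁) * #H^n(T₃)`. -/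
theorem asy_mul (h₁ : FinF F fun ν => (T ν).obj₁) (h₃ : FinF F fun ν => (T ν).obj₃)
    (hd : ∀ n : ℤ, ∃ B : ℕ, ∀ ν, Nat.card (F.homologySequenceδ (T ν) n (n + 1) rfl).hom.range ≤ B) (n : ℤ) :
    Asy (fun ν => cd F n (T ν).obj₂) (fun ν => cd F n (T ν).obj₁ * cd F n (T ν).obj₃) := by
  obtain ⟨B, hB⟩ := hd n
  obtain ⟨B', hB'⟩ := hd (n - 1)
  refine ⟨B' * B + 1, Nat.succ_pos _, fun ν => ?_⟩
  have := h₁ n ν
  have := h₃ n ν
  have := h₃ (n - 1) ν
  obtain ⟨f2, -⟩ := card_mid_le ((F.shift n).map (T ν).mor₁).hom ((F.shift n).map (T ν).mor₂).hom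
    (fun b hb => (ex₂ _ (hT ν) n b).1 hb)
  have hB'ν : Nat.card (F.homologySequenceδ (T ν) (n - 1) n (by lia)).hom.range ≤ B' := by
    have h4 := hB' ν
    have h5 : ∀ (m : ℤ) (hm : m = n) (e : n - 1 + 1 = m), Nat.card
        (F.homologySequenceδ (T ν) (n - 1) m e).hom.range =
          Nat.card (F.homologySequenceδ (T ν) (n - 1) n (by lia)).hom.range := by
      rintro m rfl e
      rfl
    rwa [h5 (n - 1 + 1) (by lia) rfl] at h4
  have key := card_five (F.homologySequenceδ (T ν) (n - 1) n (by lia)).hom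
    ((F.shift n).map (T ν).mor₁).hom ((F.shift n).map (T ν).mor₂).hom
    (F.homologySequenceδ (T ν) n (n + 1) rfl).hom (ex₁ _ (hT ν) (n - 1) n (by lia))
    (ex₂ _ (hT ν) n) (ex₃ _ (hT ν) n _ rfl)
  have p1 : 0 < Nat.card (F.homologySequenceδ (T ν) (n - 1) n (by lia)).hom.range := by
    have : Finite (F.homologySequenceδ (T ν) (n - 1) n (by lia)).hom.range :=
      Finite.of_injective _ Subtype.val_injective
    exact Nat.card_pos
  have p2 : 0 < Nat.card (F.homologySequenceδ (T ν) n (n + 1) rfl).hom.range := by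
    have : Finite (F.homologySequenceδ (T ν) n (n + 1) rfl).hom.range :=
      Finite.of_surjective _ (F.homologySequenceδ (T ν) n (n + 1) rfl).hom.rangeRestrict_surjective
    exact Nat.card_pos
  change cd F n (T ν).obj₂ * _ * _ = cd F n (T ν).obj₁ * cd F n (T ν).obj₃ at key
  dsimp only
  rw [← key]
  set a := cd F n (T ν).obj₂
  set x := Nat.card (F.homologySequenceδ (T ν) (n - 1) n (by lia)).hom.range
  set y := Nat.card (F.homologySequenceδ (T ν) n (n + 1) rfl).hom.range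
  constructor
  · calc a ≤ a * (x * y) := Nat.le_mul_of_pos_right _ (Nat.mul_pos p1 p2)
      _ = a * x * y := (mul_assoc _ _ _).symm
      _ ≤ (B' * B + 1) * (a * x * y) := Nat.le_mul_of_pos_left _ (Nat.succ_pos _)
  · calc a * x * y = (x * y) * a := by ring
      _ ≤ (B' * B + 1) * a := Nat.mul_le_mul_right _ ((Nat.mul_le_mul hB'ν (hB ν)).trans (Nat.le_succ _))

end families

end tri

section der

open DerivedCategory

variable {C : Type u} [Category.{v} C] [Abelian C] [HasDerivedCategory.{w'} C]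
  (F : DerivedCategory C ⥤ AddCommGrpCat.{w}) [F.IsHomological] [F.ShiftSequence ℤ]

/-- `A[-n] = (A[0])[-n]`. -/
noncomputable def sIso (n : ℤ) : singleFunctor C n ≅ singleFunctor C 0 ⋙ shiftFunctor _ (-n) :=
  ((singleFunctors C).shiftIso (-n) n 0 (by lia)).symm

/-- `H^m(A[-n]) = H^{m-n}(A)`. -/
noncomputable def phi (n m : ℤ) :
    singleFunctor C n ⋙ F.shift m ≅ singleFunctor C 0 ⋙ F.shift (m - n) :=
  Functor.isoWhiskerRight (sIso n) (F.shift m) ≪≫ Functor.associator _ _ _ ≪≫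
    Functor.isoWhiskerLeft _ (F.shiftIso (-n) m (m - n) (by lia))

variable {F}

theorem cd_single (n m : ℤ) (A : C) :
    cd F m ((singleFunctor C n).obj A) = cd F (m - n) ((singleFunctor C 0).obj A) :=
  Nat.card_congr ((phi F n m).app A).addCommGroupIsoToAddEquiv.toEquiv

theorem fin_single {n m : ℤ} {A : C} (h : Finite (Hs F (m - n) ((singleFunctor C 0).obj A))) :
    Finite (Hs F m ((singleFunctor C n).obj A)) :=
  @Finite.of_equiv _ _ h ((phi F n m).app A).symm.addCommGroupIsoToAddEquiv.toEquiv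

variable (F) in
/-- bounded families of objects of `C`. -/
def BddC (K : ℕ → C) : Prop := Bdd F fun ν => (singleFunctor C 0).obj (K ν)

variable (F) in
/-- finite families of objects of `C`. -/
def FinC (K : ℕ → C) : Prop := FinF F fun ν => (singleFunctor C 0).obj (K ν)

theorem BddC.of_iso {K K' : ℕ → C} (h : BddC F K) (e : ∀ ν, K ν ≅ K' ν) : BddC F K' :=
  Bdd.of_iso h fun ν => (singleFunctor C 0).mapIso (e ν)

theorem FinC.single {K : ℕ → C} (h : FinC F K) (n : ℤ) : FinF F fun ν => (singleFunctor C n).obj (K ν) :=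
  fun m ν => fin_single (h (m - n) ν)

variable (F) in
/-- families of morphisms with bounded kernel and cokernel. -/
def BddM {A B : ℕ → C} (φ : ∀ ν, A ν ⟶ B ν) : Prop :=
  BddC F (fun ν => kernel (φ ν)) ∧ BddC F (fun ν => cokernel (φ ν))

theorem BddM.comp_iso {A B B' : ℕ → C} {φ : ∀ ν, A ν ⟶ B ν} (h : BddM F φ) (e : ∀ ν, B ν ⟶ B' ν)
    (he : ∀ ν, IsIso (e ν)) : BddM F (fun ν => φ ν ≫ e ν) :=
  ⟨h.1.of_iso fun ν => (kernelCompMono (φ ν) (e ν)).symm,
    h.2.of_iso fun ν => (cokernel.mapIso (φ ν) (φ ν ≫ e ν) (Iso.refl _) (asIso (e ν)) (by simp))⟩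

/-- `0 → ker → A → im → 0` -/
theorem ses₁ {A B : C} (φ : A ⟶ B) :
    (ShortComplex.mk (kernel.ι φ) (Abelian.factorThruImage φ) (by
      rw [← cancel_mono (Abelian.image.ι φ), Category.assoc, Abelian.image.fac, kernel.condition,
        zero_comp])).ShortExact := by
  refine ShortComplex.ShortExact.mk' ?_ inferInstance inferInstance
  rw [ShortComplex.exact_iff_exact_up_to_refinements]
  intro W x hx
  dsimp at x hx ⊢
  have hx' : x ≫ φ = 0 := by rw [← Abelian.image.fac φ, reassoc_of% hx, zero_comp]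
  exact ⟨W, 𝟙 W, inferInstance, kernel.lift φ x hx', by rw [kernel.lift_ι, Category.id_comp]⟩

/-- `0 → im → B → coker → 0` -/
theorem ses₂ {A B : C} (φ : A ⟶ B) :
    (ShortComplex.mk (Abelian.image.ι φ) (cokernel.π φ) (kernel.condition _)).ShortExact := by
  refine ShortComplex.ShortExact.mk' ?_ inferInstance inferInstance
  exact ShortComplex.exact_of_f_is_kernel _ (kernelIsKernel (cokernel.π φ))

end der

end K112.LH
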