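import Groth.Agent.EtAdic.K112.LHTri

/-!
# Orders of hypercohomology by truncation
-/

set_option autoImplicit false
set_option linter.unusedSectionVars false
universe w w' v u

open CategoryTheory CategoryTheory.Limits CategoryTheory.Pretriangulated DerivedCategory

namespace K112.LH

variable {C : Type u} [Category.{v} C] [Abelian C] [HasDerivedCategory.{w'} C]
  {F : DerivedCategory C ⥤ AddCommGrpCat.{w}} [F.IsHomological] [F.ShiftSequence ℤ]

section BddM

variable {A B : ℕ → C} {φ : ∀ ν, A ν ⟶ B ν} (hφ : BddM F φ)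

include hφ

theorem BddM.fin_asy (hA : FinC F A) : FinC F B ∧ ∀ n : ℤ,
    Asy (fun ν => cd F n ((singleFunctor C 0).obj (A ν)))
      (fun ν => cd F n ((singleFunctor C 0).obj (B ν))) := by
  have t1 := fun ν => (ses₁ (φ ν)).singleTriangle_distinguished
  have t2 := fun ν => (ses₂ (φ ν)).singleTriangle_distinguished
  have f3 : FinC F (fun ν => Abelian.image (φ ν)) := fin₃ _ t1 hφ.1.fin hA
  have f2 : FinC F B := fin₂ _ t2 f3 hφ.2.fin
  exact ⟨f2, fun n => (asy₂₃ _ t1 hφ.1 hA n).trans (asy₁₂ _ t2 hφ.2 f2 n)⟩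

theorem BddM.exists_bound (n : ℤ) : ∃ Bd : ℕ, ∀ ν, ∀ (G : Type w) [AddCommGroup G]
    (d : Hs F n ((singleFunctor C 0).obj (B ν)) →+ G),
    (∀ a, d (((F.shift n).map ((singleFunctor C 0).map (φ ν))).hom a) = 0) →
      Nat.card d.range ≤ Bd := by
  obtain ⟨B₁, h₁⟩ := hφ.1 (n + 1)
  obtain ⟨B₂, h₂⟩ := hφ.2 n
  refine ⟨B₁ * B₂, fun ν G _ d hd => ?_⟩
  have : Finite ((F.shift (n + 1)).obj (ses₁ (φ ν)).singleTriangle.obj₁) := (h₁ ν).1
  have := (h₂ ν).1
  have t1 := (ses₁ (φ ν)).singleTriangle_distinguished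
  have t2 := (ses₂ (φ ν)).singleTriangle_distinguished
  refine (card_range_two
    ((F.shift n).map ((singleFunctor C 0).map (Abelian.factorThruImage (φ ν)))).hom
    (F.homologySequenceδ (ses₁ (φ ν)).singleTriangle n (n + 1) rfl).hom
    ((F.shift n).map ((singleFunctor C 0).map (Abelian.image.ι (φ ν)))).hom
    ((F.shift n).map ((singleFunctor C 0).map (cokernel.π (φ ν)))).hom d
    (fun b hb => (ex₃ _ t1 n _ rfl b).1 hb) (fun c hc => (ex₂ _ t2 n c).1 hc) (fun a => ?_)).2.trans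
      (Nat.mul_le_mul (h₁ ν).2 (h₂ ν).2)
  have e : ((F.shift n).map ((singleFunctor C 0).map (Abelian.image.ι (φ ν)))).hom
      (((F.shift n).map ((singleFunctor C 0).map (Abelian.factorThruImage (φ ν)))).hom a) =
        ((F.shift n).map ((singleFunctor C 0).map (φ ν))).hom a := by
    have h : (F.shift n).map ((singleFunctor C 0).map (Abelian.factorThruImage (φ ν))) ≫
        (F.shift n).map ((singleFunctor C 0).map (Abelian.image.ι (φ ν))) =
          (F.shift n).map ((singleFunctor C 0).map (φ ν)) := by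
      rw [← Functor.map_comp, ← Functor.map_comp, Abelian.image.fac]
    exact ConcreteCategory.congr_hom h a
  rw [e]
  exact hd a

theorem BddM.exists_bound_single (t n : ℤ) : ∃ Bd : ℕ, ∀ ν, ∀ (G : Type w) [AddCommGroup G]
    (d : Hs F n ((singleFunctor C t).obj (B ν)) →+ G),
    (∀ a, d (((F.shift n).map ((singleFunctor C t).map (φ ν))).hom a) = 0) →
      Nat.card d.range ≤ Bd := by
  obtain ⟨Bd, h⟩ := hφ.exists_bound (n - t)
  refine ⟨Bd, fun ν G _ d hd => ?_⟩
  let e := ((phi F t n).app (B ν)).addCommGroupIsoToAddEquiv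
  have h1 := h ν G (d.comp e.symm.toAddMonoidHom) (fun a => by
    obtain ⟨a, rfl⟩ := ((phi F t n).app (A ν)).addCommGroupIsoToAddEquiv.surjective a
    have h2 := ConcreteCategory.congr_hom ((phi F t n).hom.naturality (φ ν)) a
    have h3 : e.symm (((F.shift (n - t)).map ((singleFunctor C 0).map (φ ν))).hom
        (((phi F t n).hom.app (A ν)).hom a)) =
          ((F.shift n).map ((singleFunctor C t).map (φ ν))).hom a :=
      (e.symm_apply_eq).2 h2.symm
    exact (congrArg d h3).trans (hd a))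
  have h4 : (d.comp e.symm.toAddMonoidHom).range = d.range := by
    ext x
    constructor
    · rintro ⟨y, rfl⟩
      exact ⟨e.symm y, rfl⟩
    · rintro ⟨y, rfl⟩
      exact ⟨e y, congrArg d (e.symm_apply_apply y)⟩
  rwa [h4] at h1

end BddM

/-- truncation of an object of `D^{[0, n]}`. -/
theorem exists_step (N : DerivedCategory C) (n : ℤ) [N.IsGE 0] [N.IsLE n] :
    ∃ (N' : DerivedCategory C) (H : C) (f : N' ⟶ N) (g : N ⟶ (singleFunctor C n).obj H)
      (h : (singleFunctor C n).obj H ⟶ N'⟦(1 : ℤ)⟧), Triangle.mk f g h ∈ distTriang _ ∧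
      N'.IsGE 0 ∧ N'.IsLE (n - 1) ∧ IsIso ((homologyFunctor C n).map g) ∧
      ∀ i, i ≤ n - 1 → IsIso ((homologyFunctor C i).map f) := by
  obtain ⟨T, hT, rfl, h1, h3, hi1, hi3⟩ := Groth.Agent.LoccohB.Devissage.exists_trunc N (n - 1) n (by lia)
  have hGE : T.obj₁.IsGE 0 := by
    rw [isGE_iff]
    intro i hi
    by_cases hi' : i ≤ n - 1
    · have := hi1 i hi'
      exact (T.obj₂.isZero_of_isGE 0 i hi).of_iso (asIso ((homologyFunctor C i).map T.mor₁))
    · exact T.obj₁.isZero_of_isLE (n - 1) i (by lia)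
  have hLE : T.obj₃.IsLE n := by
    rw [isLE_iff]
    intro i hi
    have := hi3 i (by lia)
    exact (T.obj₂.isZero_of_isLE n i hi).of_iso (asIso ((homologyFunctor C i).map T.mor₂)).symm
  obtain ⟨e⟩ := Groth.Agent.LoccohB.Devissage.nonempty_iso_single T.obj₃ n
  refine ⟨T.obj₁, (homologyFunctor C n).obj T.obj₃, T.mor₁, T.mor₂ ≫ e.hom, e.inv ≫ T.mor₃, ?_, hGE, h1,
    ?_, hi1⟩
  · refine isomorphic_distinguished _ hT _ (Triangle.isoMk _ _ (Iso.refl _) (Iso.refl _) e.symm ?_ ?_ ?_)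
    · exact (Category.comp_id _).trans (Category.id_comp _).symm
    · refine (Category.assoc _ _ _).trans (Eq.trans ?_ (Category.id_comp _).symm)
      exact (congrArg (fun x => T.mor₂ ≫ x) e.hom_inv_id).trans (Category.comp_id _)
    · refine Eq.trans ?_ (Category.comp_id _)
      exact congrArg (fun x => (e.inv ≫ T.mor₃) ≫ x) (CategoryTheory.Functor.map_id _ _)
  · rw [Functor.map_comp]
    have := hi3 n le_rfl
    infer_instance

/-- the map `A ⟶ H^t(N)` induced by `A[-t] ⟶ N`. -/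
noncomputable def hmap {A : C} {N : DerivedCategory C} (t : ℤ) (u : (singleFunctor C t).obj A ⟶ N) :
    A ⟶ (homologyFunctor C t).obj N :=
  (singleFunctorCompHomologyFunctorIso C t).inv.app A ≫ (homologyFunctor C t).map u

theorem hmap_comp {A : C} {N N' : DerivedCategory C} (t : ℤ) (u : (singleFunctor C t).obj A ⟶ N)
    (f : N ⟶ N') : hmap t (u ≫ f) = hmap t u ≫ (homologyFunctor C t).map f := by
  rw [hmap, hmap, Functor.map_comp, Category.assoc]

theorem hmap_single {A H : C} (t : ℤ) (ψ : A ⟶ H) :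
    hmap t ((singleFunctor C t).map ψ) = ψ ≫ (singleFunctorCompHomologyFunctorIso C t).inv.app H :=
  ((singleFunctorCompHomologyFunctorIso C t).inv.naturality ψ).symm

theorem BddM.congr {A B : ℕ → C} {φ φ' : ∀ ν, A ν ⟶ B ν} (h : BddM F φ) (e : ∀ ν, φ ν = φ' ν) : BddM F φ' := by
  have : φ = φ' := funext e
  rwa [← this]

theorem BddM.of_comp_iso {A B B' : ℕ → C} {φ : ∀ ν, A ν ⟶ B ν} (e : ∀ ν, B ν ⟶ B' ν)
    (he : ∀ ν, IsIso (e ν)) (h : BddM F (fun ν => φ ν ≫ e ν)) : BddM F φ :=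
  (h.comp_iso (fun ν => inv (e ν)) (fun ν => inferInstance)).congr fun ν => by simp

theorem isZero_iff_card {n : ℤ} {N : DerivedCategory C} (h : IsZero N) :
    Finite (Hs F n N) ∧ cd F n N = 1 := by
  have h1 : IsZero ((F.shift n).obj N) := by
    have h2 : IsZero (F.obj (N⟦n⟧)) := F.map_isZero ((shiftFunctor _ n).map_isZero h)
    exact h2.of_iso ((F.isoShift n).app N).symm
  have h3 : Subsingleton (Hs F n N) := AddCommGrpCat.subsingleton_of_isZero h1
  exact ⟨inferInstance, Nat.card_unique⟩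

/-- **Orders of hypercohomology.** -/
theorem main_trunc (n : ℕ) : ∀ (N : ℕ → DerivedCategory C) (_ : ∀ ν, (N ν).IsGE 0)
    (_ : ∀ ν, (N ν).IsLE ((n : ℤ) - 1)) (A : ℕ → ℕ → C)
    (_ : ∀ t : ℕ, t < n → ∃ u : ∀ ν, (singleFunctor C (t : ℤ)).obj (A t ν) ⟶ N ν,
      BddM F (fun ν => hmap t (u ν)))
    (_ : ∀ t : ℕ, t < n → FinC F (A t)),
    FinF F N ∧ ∀ j : ℤ, Asy (fun ν => cd F j (N ν))
      (fun ν => ∏ t ∈ Finset.range n, cd F (j - t) ((singleFunctor C 0).obj (A t ν))) := by
  induction n with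
  | zero =>
    intro N hGE hLE A _ _
    have hz : ∀ ν, IsZero (N ν) := fun ν => by
      have := hGE ν
      have := hLE ν
      exact Groth.Agent.LoccohB.Devissage.isZero_of_isGE_of_isLE (N ν) 0 (((0 : ℕ) : ℤ) - 1) (by simp)
    refine ⟨fun m ν => (isZero_iff_card (hz ν)).1, fun j => Asy.of_eq fun ν => ?_⟩
    rw [Finset.range_zero, Finset.prod_empty]
    exact (isZero_iff_card (hz ν)).2
  | succ n ih =>
    intro N hGE hLE A hu hA
    have hLE' : ∀ ν, (N ν).IsLE (n : ℤ) := fun ν => by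
      have := hLE ν
      have e : (((n + 1 : ℕ) : ℤ) - 1) = n := by push_cast; ring
      rwa [e] at this
    choose N' H f g h hT h0 h1 hg hf using fun ν => @exists_step C _ _ _ (N ν) (n : ℤ) (hGE ν) (hLE' ν)
    obtain ⟨fN', aN'⟩ := ih N' h0 h1 A (fun t ht => by
      obtain ⟨u, hu⟩ := hu t (by omega)
      have hz : ∀ ν, u ν ≫ g ν = 0 := fun ν => TStructure.t.zero _ (t : ℤ) (n : ℤ) (by exact_mod_cast ht)
      choose u' hu' using fun ν => Triangle.coyoneda_exact₂ _ (hT ν) (u ν) (hz ν)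
      refine ⟨u', BddM.of_comp_iso (fun ν => (homologyFunctor C t).map (f ν))
        (fun ν => hf ν t (by lia)) (hu.congr fun ν => ?_)⟩
      rw [hu' ν]
      exact hmap_comp _ _ _) (fun t ht => hA t (by omega))
    obtain ⟨u, hu⟩ := hu n (Nat.lt_succ_self n)
    choose ψ hψ using fun ν => (singleFunctor C (n : ℤ)).map_surjective (u ν ≫ g ν)
    have hψB : BddM F ψ := by
      refine BddM.of_comp_iso (fun ν => (singleFunctorCompHomologyFunctorIso C (n : ℤ)).inv.app (H ν))
        (fun ν => inferInstance)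
        ((hu.comp_iso (fun ν => (homologyFunctor C (n : ℤ)).map (g ν)) hg).congr fun ν => ?_)
      rw [← hmap_comp, ← hψ ν, hmap_single]
    obtain ⟨fH, aH⟩ := hψB.fin_asy (hA n (Nat.lt_succ_self n))
    have fH' := fH.single (n : ℤ)
    have key := asy_mul (F := F) (fun ν => Triangle.mk (f ν) (g ν) (h ν)) hT fN' fH' (fun m => by
      obtain ⟨Bd, hBd⟩ := hψB.exists_bound_single (n : ℤ) m
      refine ⟨Bd, fun ν => hBd ν _ (F.homologySequenceδ (Triangle.mk (f ν) (g ν) (h ν)) m (m + 1) rfl).hom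
        fun a => ?_⟩
      have e1 : (F.shift m).map ((singleFunctor C (n : ℤ)).map (ψ ν)) ≫
          F.homologySequenceδ (Triangle.mk (f ν) (g ν) (h ν)) m (m + 1) rfl = 0 := by
        have e2 := F.comp_homologySequenceδ _ (hT ν) m (m + 1) rfl
        rw [hψ ν, Functor.map_comp, Category.assoc]
        exact (congrArg (fun x => (F.shift m).map (u ν) ≫ x) e2).trans comp_zero
      exact ConcreteCategory.congr_hom e1 a)
    refine ⟨fin₂ _ hT fN' fH', fun j => ?_⟩
    refine (key j).trans ?_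
    have e3 : ∀ ν, (∏ t ∈ Finset.range (n + 1), cd F (j - t) ((singleFunctor C 0).obj (A t ν))) =
        (∏ t ∈ Finset.range n, cd F (j - t) ((singleFunctor C 0).obj (A t ν))) *
          cd F (j - n) ((singleFunctor C 0).obj (A n ν)) := fun ν => Finset.prod_range_succ _ _
    refine Asy.trans ?_ (Asy.of_eq e3).symm
    refine (aN' j).mul ?_
    refine Asy.trans (Asy.of_eq fun ν => cd_single (n : ℤ) j (H ν)) ?_
    exact (aH (j - n)).symm

end K112.LH
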